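import Mathlib

/-!
# Symmetric square: the upper triangular action and the abstract conic hypothesis

`(z, a, r)` stands for the symmetric matrix with rows `(z, a)`, `(a, r)`; `act b d` is congruence by the matrix
with rows `(1, b)`, `(0, d)`.  `Conic` lists what is needed of a group of additive bijections of this space to
identify it with `PGL(2, q)` times a cyclic group.
-/

set_option autoImplicit false
set_option linter.unusedSectionVars false

namespace Cfsg.Lib.PspLocal

variable {F : Type*} [Field F]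

/-- Congruence by the matrix with rows `(1, b)`, `(0, d)`. -/
def act (b : F) (d : Fˣ) : Equiv.Perm (F × F × F) where
  toFun v := (v.1 + 2 * v.2.1 * b + b * b * v.2.2, d * (v.2.1 + b * v.2.2), d * d * v.2.2)
  invFun v := (v.1 - 2 * (d⁻¹ : Fˣ) * v.2.1 * b + b * b * (d⁻¹ : Fˣ) * (d⁻¹ : Fˣ) * v.2.2,
    (d⁻¹ : Fˣ) * v.2.1 - b * ((d⁻¹ : Fˣ) * (d⁻¹ : Fˣ)) * v.2.2, (d⁻¹ : Fˣ) * (d⁻¹ : Fˣ) * v.2.2)
  left_inv v := by
    obtain ⟨z, a, r⟩ := v
    have hd : (d : F) ≠ 0 := d.ne_zero
    simp only [Units.val_inv_eq_inv_val]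
    refine Prod.ext ?_ (Prod.ext ?_ ?_) <;> dsimp only <;> field_simp <;> ring
  right_inv v := by
    obtain ⟨z, a, r⟩ := v
    have hd : (d : F) ≠ 0 := d.ne_zero
    simp only [Units.val_inv_eq_inv_val]
    refine Prod.ext ?_ (Prod.ext ?_ ?_) <;> dsimp only <;> field_simp <;> ring

theorem act_apply (b : F) (d : Fˣ) (z a r : F) :
    act b d (z, a, r) = (z + 2 * a * b + b * b * r, (d : F) * (a + b * r), (d : F) * d * r) := rfl

theorem act_mul (b b' : F) (d d' : Fˣ) : act b d * act b' d' = act (b' + b * d') (d * d') := by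
  ext1 ⟨z, a, r⟩
  simp only [Equiv.Perm.mul_apply, act_apply, Units.val_mul]
  refine Prod.ext ?_ (Prod.ext ?_ ?_) <;> dsimp only <;> ring

theorem act_one : act (0 : F) 1 = 1 := by
  ext1 ⟨z, a, r⟩
  simp [act_apply]

theorem act_inv (b : F) (d : Fˣ) : (act b d)⁻¹ = act (-(b * (d⁻¹ : Fˣ))) d⁻¹ := by
  refine inv_eq_of_mul_eq_one_right ?_
  rw [act_mul, mul_inv_cancel, neg_add_cancel, act_one]

theorem act_pow (b : F) (d : Fˣ) : ∀ n : ℕ, ∃ b', act b d ^ n = act b' (d ^ n)
  | 0 => ⟨0, by rw [pow_zero, pow_zero, act_one]⟩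
  | n + 1 => by
    obtain ⟨b', hb⟩ := act_pow b d n
    exact ⟨b + b' * d, by rw [pow_succ, hb, act_mul, pow_succ]⟩

theorem act_fix_left (b : F) (d : Fˣ) (z : F) : act b d (z, 0, 0) = (z, 0, 0) := by simp [act_apply]

theorem act_unipotent_pow (b : F) : ∀ n : ℕ, act b 1 ^ n = act ((n : F) * b) 1
  | 0 => by rw [pow_zero, Nat.cast_zero, zero_mul, act_one]
  | n + 1 => by
    rw [pow_succ, act_unipotent_pow b n, act_mul, one_mul, Units.val_one, mul_one]
    congr 1
    push_cast
    ring

/-- The hypotheses. -/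
structure Conic (p : ℕ) (H : Subgroup (Equiv.Perm (F × F × F))) : Prop where
  additive : ∀ h ∈ H, ∀ u v, h (u + v) = h u + h v
  act_mem : ∀ (b : F) (d : Fˣ), act b d ∈ H
  cent : ∀ h ∈ H, ∀ z : F, z ≠ 0 → h (z, 0, 0) = (z, 0, 0) → ∃ b d, h = act b d
  fusion : ∃ z : F, z ≠ 0 ∧ ∀ h ∈ H, h (1, 0, 0) ≠ (z, 0, 0)
  move : ∃ h ∈ H, ∃ z : F, (h (z, 0, 0)).2 ≠ 0
  syl : ∀ g ∈ H, g ^ p = 1 → ∃ h ∈ H, ∃ b : F, g = h * act b 1 * h⁻¹

/-- The two facts about the field: its order is `3` modulo `4`, of characteristic `p`. -/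
structure FieldHyp (F : Type*) [Field F] [Fintype F] (p : ℕ) : Prop where
  prime : p.Prime
  char : CharP F p
  card : Fintype.card F % 4 = 3

namespace FieldHyp

variable [Fintype F] {p : ℕ} (hF : FieldHyp F p)
include hF

theorem neg_one_not_square : ¬ IsSquare (-1 : F) := fun h => FiniteField.isSquare_neg_one_iff.mp h hF.card

theorem two_ne_zero : (2 : F) ≠ 0 := fun h =>
  hF.neg_one_not_square ⟨1, by rw [mul_one]; exact neg_eq_of_add_eq_zero_left (by rw [one_add_one_eq_two, h])⟩

theorem eq_one_of_pow (d : Fˣ) (h : d ^ p = 1) : d = 1 := by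
  haveI := hF.char
  haveI := Fact.mk hF.prime
  refine Units.ext (sub_eq_zero.mp ?_)
  refine pow_eq_zero_iff hF.prime.ne_zero |>.mp ?_
  rw [sub_pow_char, Units.val_one, one_pow, ← Units.val_pow_eq_pow_val, h, Units.val_one, sub_self]

/-- Exactly one of a non-zero element and its negative is a square. -/
theorem square_or_neg (x : F) (hx : x ≠ 0) : ∃ d : Fˣ, x = d * d ∨ x = -(d * d) := by
  by_cases hs : IsSquare x
  · obtain ⟨s, hs⟩ := hs
    exact ⟨Units.mk0 s fun e => hx (by rw [hs, e, zero_mul]), Or.inl hs⟩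
  · have h' : IsSquare (-x) := by
      classical
      have hm : quadraticChar F (-1) = -1 := quadraticChar_neg_one_iff_not_isSquare.mpr hF.neg_one_not_square
      have hx' : quadraticChar F x = -1 := quadraticChar_neg_one_iff_not_isSquare.mpr hs
      rw [← quadraticChar_one_iff_isSquare (neg_ne_zero.mpr hx), show -x = -1 * x by ring, map_mul, hm, hx']
      norm_num
    obtain ⟨s, hs⟩ := h'
    exact ⟨Units.mk0 s fun e => hx (by rw [e, zero_mul] at hs; exact neg_eq_zero.mp hs),
      Or.inr (by rw [Units.val_mk0, ← hs, neg_neg])⟩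

/-- An additive map commuting with the multiplication by squares is linear. -/
theorem linear_of_squares (g : F → F) (hg : ∀ x y, g (x + y) = g x + g y)
    (h : ∀ (d : Fˣ) (x : F), g ((d : F) * d * x) = (d : F) * d * g x) (x : F) : g x = g 1 * x := by
  have h0 : g 0 = 0 := by
    have := hg 0 0
    rwa [add_zero, left_eq_add] at this
  rcases eq_or_ne x 0 with rfl | hx
  · rw [h0, mul_zero]
  obtain ⟨d, rfl | rfl⟩ := hF.square_or_neg x hx
  · rw [← mul_one ((d : F) * d), h d 1]; ring
  · have h1 : g (-((d : F) * d)) = -g ((d : F) * d) := by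
      refine eq_neg_of_add_eq_zero_left ?_
      rw [← hg, neg_add_cancel, h0]
    rw [h1, ← mul_one ((d : F) * d), h d 1]; ring

/-- An additive map determined on squares. -/
theorem ext_of_squares (f g : F → F) (hf : ∀ x y, f (x + y) = f x + f y) (hg : ∀ x y, g (x + y) = g x + g y)
    (h : ∀ d : Fˣ, f ((d : F) * d) = g ((d : F) * d)) (x : F) : f x = g x := by
  have hf0 : f 0 = 0 := by
    have := hf 0 0
    rwa [add_zero, left_eq_add] at this
  have hg0 : g 0 = 0 := by
    have := hg 0 0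
    rwa [add_zero, left_eq_add] at this
  rcases eq_or_ne x 0 with rfl | hx
  · rw [hf0, hg0]
  obtain ⟨d, rfl | rfl⟩ := hF.square_or_neg x hx
  · exact h d
  · have h1 : f (-((d : F) * d)) = -f ((d : F) * d) := by
      refine eq_neg_of_add_eq_zero_left ?_
      rw [← hf, neg_add_cancel, hf0]
    have h2 : g (-((d : F) * d)) = -g ((d : F) * d) := by
      refine eq_neg_of_add_eq_zero_left ?_
      rw [← hg, neg_add_cancel, hg0]
    rw [h1, h2, h d]

end FieldHyp

namespace Conic

variable [Fintype F] {p : ℕ} {H : Subgroup (Equiv.Perm (F × F × F))} (C : Conic p H) (hF : FieldHyp F p)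
include C hF

theorem map_zero {h : Equiv.Perm (F × F × F)} (hh : h ∈ H) : h 0 = 0 := by
  have := C.additive h hh 0 0
  rwa [add_zero, left_eq_add] at this

theorem map_neg {h : Equiv.Perm (F × F × F)} (hh : h ∈ H) (v : F × F × F) : h (-v) = -h v := by
  refine eq_neg_of_add_eq_zero_left ?_
  rw [← C.additive h hh, neg_add_cancel, C.map_zero hF hh]

theorem map_sub {h : Equiv.Perm (F × F × F)} (hh : h ∈ H) (u v : F × F × F) : h (u - v) = h u - h v := by
  rw [sub_eq_add_neg, C.additive h hh, C.map_neg hF hh, sub_eq_add_neg]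

/-- An element carrying one point of the first line into it preserves that line. -/
theorem preserve_line {g : Equiv.Perm (F × F × F)} (hg : g ∈ H) {z : F} (hz : z ≠ 0)
    (h : (g (z, 0, 0)).2 = 0) (x : F) : (g (x, 0, 0)).2 = 0 := by
  set z' := (g (z, 0, 0)).1
  have hgz : g (z, 0, 0) = (z', 0, 0) := Prod.ext rfl h
  have hz' : z' ≠ 0 := fun e => by
    have : g (z, 0, 0) = g 0 := by rw [C.map_zero hF hg, hgz, e]; rfl
    exact hz (congrArg Prod.fst (g.injective this))
  have hm : g * act 1 1 * g⁻¹ ∈ H := mul_mem (mul_mem hg (C.act_mem 1 1)) (inv_mem hg)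
  obtain ⟨b, d, hbd⟩ := C.cent _ hm z' hz' (by
    rw [Equiv.Perm.mul_apply, Equiv.Perm.mul_apply, ← hgz, Equiv.Perm.coe_inv, Equiv.symm_apply_apply, act_fix_left])
  haveI := hF.char
  obtain ⟨b', hb'⟩ := act_pow b d p
  have hp1 : (g * act 1 1 * g⁻¹) ^ p = 1 := by
    rw [conj_pow, act_unipotent_pow, CharP.cast_eq_zero, zero_mul, act_one, mul_one, mul_inv_cancel]
  rw [hbd, hb'] at hp1
  have hd : d = 1 := hF.eq_one_of_pow d (by
    have := congrFun (congrArg (fun e : Equiv.Perm (F × F × F) => ⇑e) hp1) (0, 1, 0)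
    simp only [act_apply, Equiv.Perm.one_apply, mul_zero, add_zero, mul_one, Prod.mk.injEq] at this
    exact Units.ext this.2.1)
  have hb : b ≠ 0 := fun e => by
    rw [e, hd, act_one, mul_inv_eq_one] at hbd
    have := congrFun (congrArg (fun f : Equiv.Perm (F × F × F) => ⇑f)
      (mul_left_cancel (hbd.trans (mul_one g).symm))) (0, 0, 1)
    simp [act_apply] at this
  have hfix : act b d (g (x, 0, 0)) = g (x, 0, 0) := by
    rw [← hbd, Equiv.Perm.mul_apply, Equiv.Perm.mul_apply, Equiv.Perm.coe_inv, Equiv.symm_apply_apply, act_fix_left]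
  generalize g (x, 0, 0) = w at hfix ⊢
  obtain ⟨z₁, a, r⟩ := w
  simp only [act_apply, hd, Units.val_one, one_mul, Prod.mk.injEq] at hfix
  obtain ⟨h1, h2, -⟩ := hfix
  have hr : r = 0 := by
    have : b * r = 0 := add_left_cancel (h2.trans (add_zero a).symm)
    exact (mul_eq_zero.mp this).resolve_left hb
  have ha : a = 0 := by
    have : 2 * a * b = 0 := by
      rw [hr, mul_zero, add_zero] at h1
      exact add_left_cancel (h1.trans (add_zero z₁).symm)
    simpa [hF.two_ne_zero, hb] using this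
  show (a, r) = 0
  rw [ha, hr]; rfl

/-- An element preserving a point of the first line fixes the form of the stabilizer. -/
theorem line_of_common {h h' : Equiv.Perm (F × F × F)} (hh : h ∈ H) (hh' : h' ∈ H) {z z' : F} (hz : z ≠ 0)
    (he : h (z, 0, 0) = h' (z', 0, 0)) (x : F) : ∃ x', h (x, 0, 0) = h' (x', 0, 0) := by
  have h1 := C.preserve_line hF (mul_mem (inv_mem hh') hh) hz (by
    rw [Equiv.Perm.mul_apply, he, Equiv.Perm.coe_inv, Equiv.symm_apply_apply]; rfl) x
  refine ⟨((h'⁻¹ * h) (x, 0, 0)).1, ?_⟩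
  rw [show ((((h'⁻¹ * h) (x, 0, 0)).1, 0, 0) : F × F × F) = (h'⁻¹ * h) (x, 0, 0) from Prod.ext rfl h1.symm,
    ← Equiv.Perm.mul_apply, mul_inv_cancel_left]

theorem involution_shape {b : F} {d : Fˣ} (h2 : act b d * act b d = 1) (h1 : act b d ≠ 1) : d = -1 := by
  rw [act_mul] at h2
  have e := congrFun (congrArg (fun e : Equiv.Perm (F × F × F) => ⇑e) h2) (0, 0, 1)
  have e' := congrFun (congrArg (fun e : Equiv.Perm (F × F × F) => ⇑e) h2) (0, 1, 0)
  simp only [act_apply, Equiv.Perm.one_apply, Units.val_mul, mul_zero, add_zero, mul_one, zero_mul, zero_add,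
    Prod.mk.injEq] at e e'
  rcases mul_self_eq_one_iff.mp e'.2.1 with hd | hd
  · exfalso
    apply h1
    rw [hd, one_mul] at e
    have : 2 * b = 0 := by
      have h3 := e.2.1
      rw [one_mul] at h3
      linear_combination h3
    rw [(mul_eq_zero.mp this).resolve_left hF.two_ne_zero, Units.ext (hd.trans Units.val_one.symm), act_one]
  · exact Units.ext (by rw [hd, Units.val_neg, Units.val_one])

theorem invol_conj (b : F) : act b (-1) = act (-b / 2) 1 * act 0 (-1) * (act (-b / 2) 1)⁻¹ := by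
  rw [act_inv, act_mul, act_mul]
  have := hF.two_ne_zero
  congr 1
  · simp only [inv_one, Units.val_one, Units.val_neg, zero_add]
    field_simp
    ring
  · simp

end Conic

end Cfsg.Lib.PspLocal
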