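import Cfsg.Agent.PspLocal.Basic
import Cfsg.Agent.Fusion.PSp.Sylow

/-!
# The centralizer of a long root element of `PSp₄(q)`, seen as the stabilizer of a point in `Sp₄(q)`
-/

set_option autoImplicit false
set_option linter.unusedSectionVars false
set_option linter.unusedSimpArgs false

namespace Cfsg.Lib.PspLocal

open Matrix Cfsg Cfsg.Lib.Fusion.PSp

/-- `Sp₄` over `F`. -/
abbrev Sp (F : Type*) [Field F] : Type _ := Matrix.symplecticGroup (Fin 2) F

variable {F : Type*} [Field F]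

/-- The first basis vector. -/
def e0 (F : Type*) [Field F] : Fin 2 ⊕ Fin 2 → F := Pi.single (Sum.inl 0) 1

/-- The stabilizer of the first basis vector. -/
def pointStab (F : Type*) [Field F] : Subgroup (Sp F) where
  carrier := {g | (g : Matrix (Fin 2 ⊕ Fin 2) (Fin 2 ⊕ Fin 2) F) *ᵥ e0 F = e0 F}
  one_mem' := by simp
  mul_mem' {g h} hg hh := by
    show _ *ᵥ _ = _
    rw [Submonoid.coe_mul, ← Matrix.mulVec_mulVec, hh, hg]
  inv_mem' {g} hg := by
    have h1 := congrArg (fun w => ((g⁻¹ : Sp F) : Matrix (Fin 2 ⊕ Fin 2) (Fin 2 ⊕ Fin 2) F) *ᵥ w)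
      (show (g : Matrix (Fin 2 ⊕ Fin 2) (Fin 2 ⊕ Fin 2) F) *ᵥ e0 F = e0 F from hg)
    simp only [mulVec_inv_mulVec] at h1
    exact h1.symm

theorem mem_pointStab {g : Sp F} :
    g ∈ pointStab F ↔ (g : Matrix (Fin 2 ⊕ Fin 2) (Fin 2 ⊕ Fin 2) F) *ᵥ e0 F = e0 F := Iff.rfl

theorem col_of_stab {g : Sp F} (hg : g ∈ pointStab F) (x : Fin 2 ⊕ Fin 2) :
    g.1 x (Sum.inl 0) = if x = Sum.inl 0 then 1 else 0 := by
  have := congrFun (mem_pointStab.mp hg) x
  rw [e0, mulVec_single_one, Pi.single_apply] at this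
  exact this

/-- Minus the identity. -/
def negOne (F : Type*) [Field F] : Sp F :=
  ⟨-1, by rw [SymplecticGroup.mem_iff]; simp⟩

theorem negOne_mem_center : negOne F ∈ Subgroup.center (Sp F) :=
  Subgroup.mem_center_iff.mpr fun g => Subtype.ext (by simp [negOne])

/-- The matrix with rows `(z, a)`, `(a, r)`. -/
def symX (v : F × F × F) : Matrix (Fin 2) (Fin 2) F := !![v.1, v.2.1; v.2.1, v.2.2]

theorem symX_mem (v : F × F × F) : symX v ∈ symMat F 2 := by
  rw [mem_symMat]
  ext i j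
  fin_cases i <;> fin_cases j <;> rfl

theorem symX_surj {X : Matrix (Fin 2) (Fin 2) F} (hX : X ∈ symMat F 2) : X = symX (X 0 0, X 0 1, X 1 1) := by
  have h : X 1 0 = X 0 1 := congrFun (congrFun (mem_symMat.mp hX) 0) 1
  ext i j
  fin_cases i <;> fin_cases j <;> simp [symX, h]

/-- The translation of a triple. -/
def trV (v : F × F × F) : Sp F := tr (symX v) (symX_mem v)

theorem coe_trV (v : F × F × F) :
    (trV v : Matrix (Fin 2 ⊕ Fin 2) (Fin 2 ⊕ Fin 2) F) = fromBlocks 1 (symX v) 0 1 := rfl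

theorem trV_add (u v : F × F × F) : trV (u + v) = trV u * trV v := by
  rw [trV, trV, trV, tr_mul]
  refine tr_congr ?_ _ _
  ext i j
  fin_cases i <;> fin_cases j <;> simp [symX]

theorem trV_zero : trV (0 : F × F × F) = 1 := by
  refine Subtype.ext ?_
  rw [coe_trV, OneMemClass.coe_one, ← fromBlocks_one, fromBlocks_inj]
  refine ⟨rfl, ?_, rfl, rfl⟩
  ext i j
  fin_cases i <;> fin_cases j <;> rfl

theorem trV_inj {u v : F × F × F} (h : trV u = trV v) : u = v := by
  have h1 := congrArg Subtype.val h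
  rw [coe_trV, coe_trV, fromBlocks_inj] at h1
  exact Prod.ext (congrFun (congrFun h1.2.1 0) 0) (Prod.ext (congrFun (congrFun h1.2.1 0) 1) (congrFun (congrFun h1.2.1 1) 1))

theorem trV_comm (u v : F × F × F) : trV u * trV v = trV v * trV u := by
  rw [← trV_add, ← trV_add, add_comm]

theorem trV_mem_siegel (v : F × F × F) : trV v ∈ siegel F 2 := mem_siegel.mpr ⟨_, _, rfl⟩

theorem exists_trV {g : Sp F} (hg : g ∈ siegel F 2) : ∃ v, trV v = g := by
  obtain ⟨X, hX, rfl⟩ := mem_siegel.mp hg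
  exact ⟨_, tr_congr (symX_surj hX).symm _ _⟩

/-- The triangular matrix with rows `(1, b)`, `(0, d)`. -/
def tGL (b : F) (d : Fˣ) : GL (Fin 2) F where
  val := !![1, b; 0, (d : F)]
  inv := !![1, -(b * (d⁻¹ : Fˣ)); 0, ((d⁻¹ : Fˣ) : F)]
  val_inv := by ext i j; fin_cases i <;> fin_cases j <;> simp
  inv_val := by ext i j; fin_cases i <;> fin_cases j <;> simp

/-- Its image in the Levi subgroup. -/
def lev (b : F) (d : Fˣ) : Sp F := levi (tGL b d)

theorem congr_symX {A : Matrix (Fin 2) (Fin 2) F} {b : F} {d : Fˣ} (hA : A = !![1, b; 0, (d : F)])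
    (v : F × F × F) : A * symX v * Aᵀ = symX (act b d v) := by
  obtain ⟨z, a, r⟩ := v
  subst hA
  rw [act_apply]
  ext i j
  fin_cases i <;> fin_cases j <;> simp [symX, Matrix.mul_apply, Fin.sum_univ_two] <;> ring

theorem lev_conj (b : F) (d : Fˣ) (v : F × F × F) : lev b d * trV v * (lev b d)⁻¹ = trV (act b d v) := by
  rw [lev, trV, trV, levi_conj_tr]
  exact tr_congr (congr_symX rfl v) _ _

theorem lev_mem (b : F) (d : Fˣ) : lev b d ∈ pointStab F := by
  rw [mem_pointStab, lev, coe_levi, e0, mulVec_single_one]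
  ext x
  rcases x with i | i <;> fin_cases i <;> simp [tGL]

theorem lev_mul (b b' : F) : lev (b + b') 1 = lev b 1 * lev b' 1 := by
  rw [lev, lev, lev, ← map_mul]
  congr 1
  refine Units.ext ?_
  rw [Units.val_mul]
  ext i j
  fin_cases i <;> fin_cases j <;> simp [tGL, add_comm]

theorem act_inj (h2 : (2 : F) ≠ 0) {b b' : F} {d d' : Fˣ} (h : act b d = act b' d') : b = b' ∧ d = d' := by
  have e := congrFun (congrArg (fun f : Equiv.Perm (F × F × F) => ⇑f) h) (0, 1, 0)
  simp only [act_apply, Prod.mk.injEq, mul_zero, add_zero, mul_one, zero_add] at e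
  exact ⟨mul_left_cancel₀ h2 e.1, Units.ext e.2.1⟩

variable [Fintype F]

/-- An element of the stabilizer normalizing the translations acts triangularly. -/
theorem shape_of_normal {g : Sp F} (hg : g ∈ pointStab F)
    (hn : ∀ v, ∃ w, g * trV v * g⁻¹ = trV w) :
    g.1.toBlocks₂₁ = 0 ∧ ∃ (b : F) (d : Fˣ), g.1.toBlocks₁₁ = !![1, b; 0, (d : F)] ∧
      ∀ v, g * trV v * g⁻¹ = trV (act b d v) := by
  have key : ∀ v w, g * trV v * g⁻¹ = trV w →
      g.1.toBlocks₁₁ * symX v + g.1.toBlocks₁₂ = g.1.toBlocks₁₂ + symX w * g.1.toBlocks₂₂ ∧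
        g.1.toBlocks₂₁ * symX v + g.1.toBlocks₂₂ = g.1.toBlocks₂₂ := by
    intro v w h
    have h1 := congrArg Subtype.val (mul_inv_eq_iff_eq_mul.mp h)
    simp only [Submonoid.coe_mul, coe_trV, toBlocks_mul, toBlocks_fromBlocks₁₁, toBlocks_fromBlocks₁₂,
      toBlocks_fromBlocks₂₁, toBlocks_fromBlocks₂₂, mul_one, mul_zero, one_mul, zero_mul, add_zero, zero_add,
      fromBlocks_inj] at h1
    exact ⟨h1.2.1, h1.2.2.2⟩
  have hC : g.1.toBlocks₂₁ = 0 := by
    obtain ⟨w, hw⟩ := hn (1, 0, 1)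
    have h1 := (key _ _ hw).2
    rw [show symX ((1 : F), (0 : F), (1 : F)) = 1 by ext i j; fin_cases i <;> fin_cases j <;> rfl, mul_one,
      add_eq_right] at h1
    exact h1
  obtain ⟨h1, h2, -⟩ := block_rels hC
  have hdet : g.1.toBlocks₁₁.det ≠ 0 := fun h0 => by
    have := congrArg Matrix.det h1
    rw [det_mul, det_transpose, h0, zero_mul, det_one] at this
    exact zero_ne_one this
  have h00 : g.1.toBlocks₁₁ 0 0 = 1 := (col_of_stab hg (Sum.inl 0)).trans (if_pos rfl)
  have h10 : g.1.toBlocks₁₁ 1 0 = 0 := (col_of_stab hg (Sum.inl 1)).trans (if_neg (by simp))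
  have hd : g.1.toBlocks₁₁ 1 1 ≠ 0 := fun e => hdet (by rw [Matrix.det_fin_two, e, h10]; simp)
  have hA : g.1.toBlocks₁₁ = !![1, g.1.toBlocks₁₁ 0 1; 0, ((Units.mk0 _ hd : Fˣ) : F)] := by
    ext i j
    fin_cases i <;> fin_cases j <;> simp [h00, h10]
  refine ⟨hC, _, _, hA, fun v => ?_⟩
  obtain ⟨w, hw⟩ := hn v
  rw [hw]
  have h3 := (key _ _ hw).1
  rw [add_comm g.1.toBlocks₁₂, add_left_inj] at h3
  refine tr_congr ?_ _ _
  rw [← congr_symX hA v, h3, Matrix.mul_assoc, h2, mul_one]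

variable (p : ℕ) [Fact p.Prime] [CharP F p]

theorem sylU_le_pointStab : sylU F 2 ≤ pointStab F := fun _ hu => fix_of_mem_sylU (by norm_num) hu

theorem trV_mem (v : F × F × F) : trV v ∈ pointStab F := sylU_le_pointStab (tr_mem _ _)

/-- The long root translations are central in the stabilizer. -/
theorem root_comm {g : Sp F} (hg : g ∈ pointStab F) (z : F) : g * trV (z, 0, 0) = trV (z, 0, 0) * g := by
  have hrow : ∀ y, g.1 (Sum.inr 0) y = if y = Sum.inr 0 then 1 else 0 := fun y => by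
    have := inr_mulVec (h := g) (e := (0 : Fin 2)) (c := 1)
      (by rw [one_smul]; exact mem_pointStab.mp hg) (Pi.single y 1)
    rw [one_mul, mulVec_single_one, Pi.single_apply] at this
    rw [show (if y = Sum.inr 0 then (1 : F) else 0) = if Sum.inr 0 = y then 1 else 0 by simp only [eq_comm]]
    exact this
  have hE : (trV ((z, 0, 0) : F × F × F) : Matrix (Fin 2 ⊕ Fin 2) (Fin 2 ⊕ Fin 2) F) =
      1 + Matrix.single (Sum.inl 0) (Sum.inr 0) z := by
    rw [coe_trV]
    ext x y
    rcases x with i | i <;> rcases y with j | j <;> fin_cases i <;> fin_cases j <;> simp [symX, Matrix.one_apply]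
  refine Subtype.ext ?_
  rw [Submonoid.coe_mul, Submonoid.coe_mul, hE, mul_add, add_mul, mul_one, one_mul]
  congr 1
  ext x y
  by_cases hy : y = Sum.inr 0
  · subst hy
    rw [Matrix.mul_single_apply_same, col_of_stab hg]
    by_cases hx : x = Sum.inl 0
    · subst hx
      rw [Matrix.single_mul_apply_same, hrow, if_pos rfl, if_pos rfl, one_mul, mul_one]
    · rw [Matrix.single_mul_apply_of_ne _ _ _ _ _ hx, if_neg hx, zero_mul]
  · rw [Matrix.mul_single_apply_of_ne _ _ _ _ _ hy]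
    by_cases hx : x = Sum.inl 0
    · subst hx
      rw [Matrix.single_mul_apply_same, hrow, if_neg hy, mul_zero]
    · rw [Matrix.single_mul_apply_of_ne _ _ _ _ _ hx]

theorem eq_one_of_center_stab (hp : p ≠ 2) {g : Sp F} (hg : g ∈ pointStab F) (hc : g ∈ Subgroup.center (Sp F)) :
    g = 1 := by
  haveI : Fact (2 < p) := ⟨lt_of_le_of_ne (Fact.out : p.Prime).two_le hp.symm⟩
  have hne : negOne F ≠ 1 := fun e => by
    have := congrArg (fun g : Sp F => g.1 (Sum.inl 0) (Sum.inl 0)) e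
    simp [negOne] at this
    exact CharP.neg_one_ne_one F p this
  obtain ⟨n, hpr, hn⟩ := FiniteField.card F p
  have hodd : 2 ∣ Nat.card F - 1 := by
    rw [Nat.card_eq_fintype_card, hn]
    have h1 : Odd (p ^ (n : ℕ)) := (hpr.odd_of_ne_two hp).pow
    obtain ⟨k, hk⟩ := h1
    omega
  have h2 : Nat.card (Subgroup.center (Sp F)) = 2 := by
    rw [Cfsg.Lib.Classical.card_center_symplecticGroup (by norm_num), Nat.gcd_eq_left hodd]
  obtain ⟨y, hy, hy'⟩ := (Nat.card_eq_two_iff' (1 : Subgroup.center (Sp F))).mp h2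
  by_contra h
  have e1 := hy' ⟨g, hc⟩ (fun e => h (congrArg Subtype.val e))
  have e2 := hy' ⟨negOne F, negOne_mem_center⟩ (fun e => hne (congrArg Subtype.val e))
  have e3 : g = negOne F := congrArg Subtype.val (e1.trans e2.symm)
  subst e3
  have := col_of_stab hg (Sum.inl 0)
  simp [negOne] at this
  exact CharP.neg_one_ne_one F p this

/-- The projection. -/
abbrev proj (F : Type*) [Field F] : Sp F →* Cfsg.PSp 2 F := QuotientGroup.mk' _

theorem proj_injOn (hp : p ≠ 2) {g h : Sp F} (hg : g ∈ pointStab F) (hh : h ∈ pointStab F)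
    (e : proj F g = proj F h) : g = h :=
  inv_mul_eq_one.mp (eq_one_of_center_stab p hp (mul_mem (inv_mem hg) hh) (QuotientGroup.eq.mp e))

include p in
/-- The centralizer of a long root element is the image of the stabilizer. -/
theorem centralizer_root {c : F} (hc : c ≠ 0) :
    Subgroup.centralizer ({proj F (trV (c, 0, 0))} : Set (Cfsg.PSp 2 F)) = (pointStab F).map (proj F) := by
  ext y
  obtain ⟨g, rfl⟩ := QuotientGroup.mk'_surjective _ y
  rw [Subgroup.mem_centralizer_singleton_iff]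
  constructor
  · intro h
    set t : Sp F := trV (c, 0, 0)
    have hz : t⁻¹ * (g * t * g⁻¹) ∈ Subgroup.center (Sp F) := by
      refine QuotientGroup.eq.mp ?_
      show proj F t = proj F (g * t * g⁻¹)
      rw [map_mul, map_mul, map_inv, eq_mul_inv_iff_mul_eq, h]
    have htp : t ^ p = 1 := tr_pow p _ _
    have hcom : Commute t⁻¹ (g * t * g⁻¹) := by
      have h1 := Subgroup.mem_center_iff.mp hz t
      show t⁻¹ * (g * t * g⁻¹) = g * t * g⁻¹ * t⁻¹
      rw [eq_mul_inv_iff_mul_eq, ← h1, mul_inv_cancel_left]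
    have h1 := eq_one_of_mem_center p (by norm_num) hz (k := 1) (by
      rw [pow_one, hcom.mul_pow, inv_pow, conj_pow, htp, inv_one, one_mul, mul_one, mul_inv_cancel])
    have hgt : g * t = t * g := (mul_inv_eq_iff_eq_mul.mp (inv_mul_eq_one.mp h1).symm)
    have hE : (t : Matrix (Fin 2 ⊕ Fin 2) (Fin 2 ⊕ Fin 2) F) =
        1 + Matrix.single (Sum.inl 0) (Sum.inr 0) c := by
      rw [coe_trV]
      ext x y
      rcases x with i | i <;> rcases y with j | j <;> fin_cases i <;> fin_cases j <;> simp [symX, Matrix.one_apply]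
    have h2 := congrArg Subtype.val hgt
    rw [Submonoid.coe_mul, Submonoid.coe_mul, hE, mul_add, add_mul, mul_one, one_mul, add_right_inj] at h2
    have hcol : g.1 *ᵥ e0 F = g.1 (Sum.inr 0) (Sum.inr 0) • e0 F := by
      ext x
      rw [e0, mulVec_single_one]
      have h3 := congrFun (congrFun h2 x) (Sum.inr 0)
      rw [Matrix.mul_single_apply_same] at h3
      by_cases hx : x = Sum.inl 0
      · subst hx
        rw [Matrix.single_mul_apply_same, mul_comm c] at h3
        simpa using mul_right_cancel₀ hc h3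
      · rw [Matrix.single_mul_apply_of_ne _ _ _ _ _ hx, mul_eq_zero] at h3
        simpa [hx] using h3.resolve_right hc
    have hmu := inr_mulVec (h := g) (e := (0 : Fin 2)) hcol (Pi.single (Sum.inr 0) 1)
    rw [mulVec_single_one, Pi.single_eq_same] at hmu
    rcases mul_self_eq_one_iff.mp hmu with h4 | h4
    · exact ⟨g, by rw [SetLike.mem_coe, mem_pointStab, hcol, h4, one_smul], rfl⟩
    · refine ⟨g * negOne F, ?_, ?_⟩
      · rw [SetLike.mem_coe, mem_pointStab, Submonoid.coe_mul]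
        show (g.1 * -1) *ᵥ _ = _
        rw [mul_neg, mul_one, neg_mulVec, hcol, h4]
        simp
      · rw [map_mul, show proj F (negOne F) = 1 from (QuotientGroup.eq_one_iff _).mpr negOne_mem_center, mul_one]
  · rintro ⟨s, hs, e⟩
    rw [← e, ← map_mul, ← map_mul, root_comm hs]

/-- An element of the standard Sylow subgroup centralizing it is a long root translation. -/
theorem central_in_sylU (hp : p ≠ 2) {u : Sp F} (hu : u ∈ sylU F 2) (h : ∀ r ∈ sylU F 2, u * r = r * u) :
    ∃ z : F, u = trV (z, 0, 0) := by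
  haveI : Fact (2 < p) := ⟨lt_of_le_of_ne (Fact.out : p.Prime).two_le hp.symm⟩
  have h2 : (2 : F) ≠ 0 := Ring.two_ne_zero (by rw [ringChar.eq F p]; exact hp)
  obtain ⟨⟨z, a, r⟩, rfl⟩ := exists_trV (siegel_centralizer hu fun r hr => h r (siegel_le hr))
  have hl : lev (1 : F) 1 ∈ sylU F 2 := by
    rw [mem_sylU, lev, coe_levi, toBlocks_fromBlocks₂₁, toBlocks_fromBlocks₁₁]
    refine ⟨rfl, fun i j hji => ?_⟩
    fin_cases i <;> fin_cases j <;> simp_all [tGL]
  have h1 := lev_conj (1 : F) 1 (z, a, r)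
  rw [← h _ hl, mul_inv_cancel_right] at h1
  have h3 := trV_inj h1
  simp only [act_apply, Units.val_one, one_mul, mul_one, Prod.mk.injEq] at h3
  have hr : r = 0 := by simpa using h3.2.1
  have ha : a = 0 := by
    have := h3.1
    rw [hr, add_zero, left_eq_add, mul_eq_zero] at this
    exact this.resolve_left h2
  exact ⟨z, by rw [hr, ha]⟩

/-- An element of order `p` central in a Sylow subgroup is conjugate to a long root element. -/
theorem exists_conj_root (hp : p ≠ 2) (x : Cfsg.PSp 2 F) (hx : orderOf x = p) (Px : Sylow p (Cfsg.PSp 2 F))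
    (hxP : x ∈ (Px : Subgroup (Cfsg.PSp 2 F))) (hxc : ∀ y ∈ (Px : Subgroup (Cfsg.PSp 2 F)), y * x = x * y) :
    ∃ (g : Cfsg.PSp 2 F) (c : F), c ≠ 0 ∧ g * x * g⁻¹ = proj F (trV (c, 0, 0)) := by
  obtain ⟨Q, hQ⟩ := exists_sylow (F := F) (m := 2) p
  have hπ : Function.Surjective (proj F) := QuotientGroup.mk'_surjective _
  obtain ⟨g, hg⟩ := MulAction.exists_smul_eq (Cfsg.PSp 2 F) Px (Q.mapSurjective hπ)
  have hc : ∀ y ∈ (Q.mapSurjective hπ : Subgroup (Cfsg.PSp 2 F)), y * (g * x * g⁻¹) = g * x * g⁻¹ * y := by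
    intro y hy
    rw [← hg, Sylow.coe_subgroup_smul] at hy
    obtain ⟨w, hw, rfl⟩ := hy
    show g * w * g⁻¹ * _ = _ * (g * w * g⁻¹)
    rw [← mul_assoc, show g * w * g⁻¹ * (g * x) * g⁻¹ = g * (w * x) * g⁻¹ by group, hxc w hw]
    group
  have hm : g * x * g⁻¹ ∈ (Q.mapSurjective hπ : Subgroup (Cfsg.PSp 2 F)) := by
    rw [← hg, Sylow.coe_subgroup_smul]
    exact ⟨x, hxP, rfl⟩
  rw [Sylow.coe_mapSurjective, hQ] at hc hm
  obtain ⟨u, hu, e⟩ := hm
  obtain ⟨c, rfl⟩ := central_in_sylU p hp hu fun r hr => eq_of_mk_eq p (by norm_num) (mul_mem hu hr) (mul_mem hr hu) (by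
    show proj F _ = proj F _
    rw [map_mul, map_mul, e, hc _ (Subgroup.mem_map_of_mem _ hr)])
  refine ⟨g, c, fun h0 => ?_, e.symm⟩
  rw [h0, show ((0, 0, 0) : F × F × F) = 0 from rfl, trV_zero, map_one, eq_comm, mul_inv_eq_one,
    mul_eq_left] at e
  rw [e, orderOf_one] at hx
  exact (Fact.out : p.Prime).ne_one hx.symm

theorem exists_decompV {g : Sp F} (hg : g ∈ sylU F 2) : ∃ v b, g = trV v * lev b 1 := by
  obtain ⟨X, hX, M, hM, rfl⟩ := exists_decomp hg
  refine ⟨_, M.1 0 1, congrArg₂ (· * ·) (tr_congr (symX_surj hX) _ _) ?_⟩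
  rw [lev, leviSL, MonoidHom.comp_apply]
  congr 1
  refine Units.ext ?_
  ext i j
  fin_cases i <;> fin_cases j <;> simp [tGL]
  · simpa using hM 0 0 le_rfl
  · simpa using hM 1 0 (by decide)
  · simpa using hM 1 1 le_rfl

theorem mem_siegel_of_acts {g : Sp F} (hg : g ∈ pointStab F) (h : ∀ v, g * trV v * g⁻¹ = trV v) (h2 : (2 : F) ≠ 0) :
    g ∈ siegel F 2 := by
  obtain ⟨hC, b, d, hA, hv⟩ := shape_of_normal hg fun v => ⟨v, h v⟩
  obtain ⟨rfl, rfl⟩ : b = 0 ∧ d = 1 := act_inj h2 (by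
    rw [act_one]
    exact Equiv.ext fun v => trV_inj ((hv v).symm.trans (h v)))
  refine siegel_centralizer (mem_sylU.mpr ⟨hC, ?_⟩) fun r hr => ?_
  · rw [hA]
    intro i j hji
    fin_cases i <;> fin_cases j <;> simp_all
  · obtain ⟨v, rfl⟩ := exists_trV hr
    exact mul_inv_eq_iff_eq_mul.mp (h v)

/-- The Siegel radical is the only abelian subgroup of the Sylow subgroup of its order. -/
theorem eq_siegel (h2 : (2 : F) ≠ 0) {A : Subgroup (Sp F)} (hA : A ≤ sylU F 2) (hc : ∀ a ∈ A, ∀ b ∈ A, a * b = b * a)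
    (hcard : Nat.card A = Fintype.card F ^ 3) : A = siegel F 2 := by
  have hq : 1 < Fintype.card F := Fintype.one_lt_card
  have hS : Nat.card (siegel F 2) = Fintype.card F ^ 3 := by
    rw [← Nat.card_congr (Equiv.ofBijective (fun v : F × F × F => (⟨trV v, trV_mem_siegel v⟩ : siegel F 2))
      ⟨fun u v e => trV_inj (congrArg Subtype.val e), fun g => (exists_trV g.2).imp fun v e => Subtype.ext e⟩)]
    rw [Nat.card_prod, Nat.card_prod, Nat.card_eq_fintype_card]
    ring
  by_cases hle : A ≤ siegel F 2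
  · exact Subgroup.eq_of_le_of_card_ge hle (by rw [hS, hcard])
  obtain ⟨u, huA, huS⟩ := SetLike.not_le_iff_exists.mp hle
  obtain ⟨v₀, b₀, hu⟩ := exists_decompV (hA huA)
  have hb₀ : b₀ ≠ 0 := fun e => huS (by
    rw [hu, e, show lev (0 : F) 1 = 1 from (left_eq_mul (a := lev (0 : F) 1)).mp (by rw [← lev_mul, add_zero]), mul_one]
    exact trV_mem_siegel _)
  choose fv fb hf using fun a : A => exists_decompV (hA a.2)
  have hinj : Function.Injective fun a : A => (fb a, (fv a).1) := by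
    intro a a' e
    simp only [Prod.mk.injEq] at e
    have h1 : (a : Sp F) * (a' : Sp F)⁻¹ = trV (fv a - fv a') := by
      rw [hf a, hf a', e.1, _root_.mul_inv_rev, mul_assoc, mul_inv_cancel_left, mul_inv_eq_iff_eq_mul, ← trV_add,
        sub_add_cancel]
    have h3 := hc _ huA _ (mul_mem a.2 (inv_mem a'.2))
    rw [h1, hu, ← mul_assoc (trV (fv a - fv a')), trV_comm _ v₀, mul_assoc, mul_assoc] at h3
    have h4 := lev_conj b₀ 1 (fv a - fv a')
    rw [mul_left_cancel h3, mul_inv_cancel_right] at h4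
    have h5 := trV_inj h4
    generalize hw : fv a - fv a' = w at h1 h5
    obtain ⟨z, x, r⟩ := w
    simp only [act_apply, Units.val_one, one_mul, Prod.mk.injEq] at h5
    have hr : r = 0 := by simpa [hb₀] using h5.2.1
    have hx : x = 0 := by simpa [hr, h2, hb₀] using h5.1
    have hz : z = 0 := by
      have := congrArg Prod.fst hw
      rw [Prod.fst_sub, e.2, sub_self] at this
      exact this.symm
    rw [hz, hx, hr, show ((0, 0, 0) : F × F × F) = 0 from rfl, trV_zero, mul_inv_eq_one] at h1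
    exact Subtype.ext h1
  have := Nat.card_le_card_of_injective _ hinj
  rw [hcard, Nat.card_prod, Nat.card_eq_fintype_card] at this
  nlinarith [this, hq, Nat.mul_le_mul hq.le hq.le]

end Cfsg.Lib.PspLocal
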