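import Cfsg.Agent.PspLocal.Points

/-!
# Counting: the plane fixed by the torus involution contains exactly two points

The number `m` of points in the plane satisfies `m ∣ (1 + q (m - 1)) q` and is prime to `p`, so `m ∣ q - 1`; the
squares of the torus act semiregularly on the graphs with non-zero function, so `m = 2`.
-/

set_option autoImplicit false
set_option linter.unusedSectionVars false

namespace Cfsg.Lib.PspLocal

variable {F : Type*} [Field F] [Fintype F] {p : ℕ} {H : Subgroup (Equiv.Perm (F × F × F))}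

/-- The graphs in the plane, by their value at `1`. -/
def Phi (H : Subgroup (Equiv.Perm (F × F × F))) : Set F := {c | ∃ h ∈ H, ∃ x, h (x, 0, 0) = (c, 0, 1)}

namespace Conic

variable (C : Conic p H) (hF : FieldHyp F p)
include C hF

theorem inj_third {g : Equiv.Perm (F × F × F)} (hg : g ∈ H) {x₀ : F} (hx₀ : (g (x₀, 0, 0)).2 ≠ 0)
    (hW : ∀ x, (g (x, 0, 0)).2.1 = 0) {x y : F} (e : (g (x, 0, 0)).2.2 = (g (y, 0, 0)).2.2) : x = y := by
  by_contra hne
  refine hx₀ (C.preserve_line hF hg (sub_ne_zero.mpr hne) (Prod.ext (hW _) ?_) x₀)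
  rw [show ((x - y, 0, 0) : F × F × F) = (x, 0, 0) - (y, 0, 0) by ext <;> simp, C.map_sub hF hg]
  simpa using sub_eq_zero.mpr e

theorem rep {c : F} (hc : c ∈ Phi H) : ∃ g ∈ H, (∀ x, (g (x, 0, 0)).2.1 = 0) ∧
    ∃ φ : F → F, (∀ r r', φ (r + r') = φ r + φ r') ∧ Graph g φ ∧ φ 1 = c ∧ (g (1, 0, 0)).2 ≠ 0 := by
  obtain ⟨g, hg, x, hx⟩ := hc
  have hW := C.plane_of_mem hF hg (x := x) (by rw [hx]) (by rw [hx]; exact one_ne_zero)
  have hx0 : (g (x, 0, 0)).2 ≠ 0 := fun e => one_ne_zero (α := F) (by rw [hx] at e; exact congrArg Prod.snd e)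
  obtain ⟨φ, hφ, hG⟩ := C.exists_graph hF hg hW ⟨x, hx0⟩
  obtain ⟨x', hx'⟩ := hG 1
  refine ⟨g, hg, hW, φ, hφ, hG, ?_, fun e => hx0 (C.preserve_line hF hg one_ne_zero e x)⟩
  have : x' = x := C.inj_third hF hg hx0 hW (by rw [hx', hx])
  rw [this, hx] at hx'
  exact (congrArg Prod.fst hx').symm

theorem exists_centralizing {g : Equiv.Perm (F × F × F)} (hg : g ∈ H) (hW : ∀ x, (g (x, 0, 0)).2.1 = 0) :
    ∃ s : F, tau F * (g * act s 1) = g * act s 1 * tau F := by
  have hmem : g⁻¹ * tau F * g ∈ H := mul_mem (mul_mem (inv_mem hg) (C.act_mem _ _)) hg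
  have hfix : ∀ x, tau F (g (x, 0, 0)) = g (x, 0, 0) := fun x => by
    have := hW x
    generalize g (x, 0, 0) = v at this
    obtain ⟨z, a, r⟩ := v
    simp only at this
    rw [this, tau_apply, neg_zero]
  obtain ⟨b, d, hbd⟩ := C.cent _ hmem 1 one_ne_zero (by
    rw [Equiv.Perm.mul_apply, Equiv.Perm.mul_apply, hfix, Equiv.Perm.coe_inv, Equiv.symm_apply_apply])
  have hd : d = -1 := by
    refine C.involution_shape hF (b := b) ?_ ?_
    · rw [← hbd, show g⁻¹ * tau F * g * (g⁻¹ * tau F * g) = g⁻¹ * (tau F * tau F) * g by group, tau, act_mul,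
        show ((-1 : Fˣ) * -1) = 1 by simp, zero_mul, add_zero, act_one, mul_one, inv_mul_cancel]
    · intro e
      rw [← hbd, mul_assoc, inv_mul_eq_one] at e
      have e2 : tau F = 1 := mul_eq_right.mp e.symm
      have e3 := congrFun (congrArg (fun f : Equiv.Perm (F × F × F) => ⇑f) e2) (0, 1, 0)
      rw [tau_apply, Equiv.Perm.one_apply, Prod.mk.injEq, Prod.mk.injEq] at e3
      exact hF.two_ne_zero (by linear_combination -e3.2.1)
  subst hd
  rw [C.invol_conj hF b] at hbd
  refine ⟨-b / 2, ?_⟩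
  calc tau F * (g * act (-b / 2) 1) = g * (g⁻¹ * tau F * g) * act (-b / 2) 1 := by group
    _ = _ := by rw [hbd, tau]; group

/-- The order of the group fixing the first line, in terms of its part centralising `tau`. -/
theorem centralizer_plane {g : Equiv.Perm (F × F × F)} (hg : g ∈ H) (hc : tau F * g = g * tau F) (x : F) :
    (g (x, 0, 0)).2.1 = 0 := by
  have h := congrFun (congrArg (fun f : Equiv.Perm (F × F × F) => ⇑f) hc) (x, 0, 0)
  simp only [Equiv.Perm.mul_apply, tau_apply, neg_zero] at h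
  generalize g (x, 0, 0) = v at h
  obtain ⟨z, a, r⟩ := v
  rw [tau_apply, Prod.mk.injEq, Prod.mk.injEq] at h
  have h3 : 2 * a = 0 := by linear_combination -h.2.1
  exact (mul_eq_zero.mp h3).resolve_left hF.two_ne_zero

/-- The stabilizer of the first line. -/
def lineStab : Subgroup H where
  carrier := {g | ((g : Equiv.Perm (F × F × F)) (1, 0, 0)).2 = 0}
  one_mem' := rfl
  mul_mem' {g g'} hg hg' := by
    show (((g : Equiv.Perm (F × F × F)) * g') (1, 0, 0)).2 = 0
    rw [Equiv.Perm.mul_apply,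
      show (g' : Equiv.Perm (F × F × F)) (1, 0, 0) = (((g' : Equiv.Perm (F × F × F)) (1, 0, 0)).1, 0, 0) from
        Prod.ext rfl hg']
    exact C.preserve_line hF g.2 one_ne_zero hg _
  inv_mem' {g} hg := by
    show (((g : Equiv.Perm (F × F × F)))⁻¹ (1, 0, 0)).2 = 0
    set z := ((g : Equiv.Perm (F × F × F)) (1, 0, 0)).1
    have hgz : (g : Equiv.Perm (F × F × F)) (1, 0, 0) = (z, 0, 0) := Prod.ext rfl hg
    have hz : z ≠ 0 := fun e => by
      rw [e, show ((0, 0, 0) : F × F × F) = 0 from rfl, ← C.map_zero hF g.2] at hgz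
      exact one_ne_zero (congrArg Prod.fst ((g : Equiv.Perm (F × F × F)).injective hgz))
    refine C.preserve_line hF (inv_mem g.2) hz ?_ 1
    rw [← hgz, Equiv.Perm.coe_inv, Equiv.symm_apply_apply]
    rfl

/-- The centralizer of `tau`. -/
def tauCent : Subgroup H := Subgroup.centralizer {(⟨tau F, C.act_mem 0 (-1)⟩ : H)}

theorem mem_tauCent {g : H} : g ∈ C.tauCent ↔ tau F * (g : Equiv.Perm (F × F × F)) = g * tau F := by
  rw [tauCent, Subgroup.mem_centralizer_singleton_iff]
  exact ⟨fun h => (congrArg Subtype.val h).symm, fun h => Subtype.ext h.symm⟩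

theorem index_lineStab : (C.lineStab hF).index = Nat.card F * Nat.card (Phi H) + 1 := by
  choose g hg hW φ hφ hG hφ1 hg1 using fun c : Phi H => C.rep hF c.2
  let Ψ : Option (F × Phi H) → H ⧸ C.lineStab hF := fun o => match o with
    | none => QuotientGroup.mk (1 : H)
    | some (s, c) => QuotientGroup.mk (⟨act s 1 * g c, mul_mem (C.act_mem _ _) (hg c)⟩ : H)
  have hΨ : Function.Bijective Ψ := by
    refine ⟨?_, fun y => ?_⟩
    · have hno : ∀ (s : F) c, (QuotientGroup.mk (1 : H) : H ⧸ C.lineStab hF) ≠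
          QuotientGroup.mk (⟨act s 1 * g c, mul_mem (C.act_mem _ _) (hg c)⟩ : H) := by
        intro s c e
        have h : (((1 : H)⁻¹ * ⟨act s 1 * g c, mul_mem (C.act_mem _ _) (hg c)⟩ : H) : Equiv.Perm (F × F × F))
            (1, 0, 0) = _ := rfl
        have h2 : ((act s 1 * g c) (1, 0, 0)).2 = 0 := by
          have := QuotientGroup.eq.mp e
          rw [inv_one, one_mul] at this
          exact this
        have h3 := hg1 c
        have h4 := hW c 1
        rw [Equiv.Perm.mul_apply] at h2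
        generalize g c (1, 0, 0) = v at h2 h3 h4
        obtain ⟨z, a, r⟩ := v
        simp only at h4
        subst h4
        simp only [act_apply, Units.val_one, one_mul] at h2
        exact h3 (Prod.ext (rfl : (0 : F) = 0) (congrArg Prod.snd h2 : r = 0))
      rintro (_ | ⟨s, c⟩) (_ | ⟨s', c'⟩) e
      · rfl
      · exact absurd e (hno _ _)
      · exact absurd e.symm (hno _ _)
      · have h := QuotientGroup.eq.mp e
        change (((act s 1 * g c)⁻¹ * (act s' 1 * g c')) (1, 0, 0)).2 = 0 at h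
        set z := (((act s 1 * g c)⁻¹ * (act s' 1 * g c')) (1, 0, 0)).1
        have hz : ((act s 1 * g c)⁻¹ * (act s' 1 * g c')) (1, 0, 0) = (z, 0, 0) := Prod.ext rfl h
        rw [Equiv.Perm.mul_apply, Equiv.Perm.coe_inv, Equiv.symm_apply_eq, Equiv.Perm.mul_apply,
          Equiv.Perm.mul_apply] at hz
        have hu : g c (z, 0, 0) = act (s' - s) 1 (g c' (1, 0, 0)) := by
          have := congrArg (act (-s) 1) hz
          rw [← Equiv.Perm.mul_apply (act (-s) 1) (act s' 1), ← Equiv.Perm.mul_apply (act (-s) 1) (act s 1), act_mul, act_mul] at this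
          simp only [mul_one, Units.val_one, add_neg_cancel, act_one, Equiv.Perm.one_apply] at this
          rw [← this, sub_eq_add_neg]
        have h3 := hg1 c'
        have h4 := hW c' 1
        have h5 := hW c z
        rw [hu] at h5
        have hss : s' - s = 0 := by
          generalize g c' (1, 0, 0) = v at h3 h4 h5
          obtain ⟨z', a, r⟩ := v
          simp only at h4
          subst h4
          simp only [act_apply, Units.val_one, one_mul, zero_add] at h5
          exact (mul_eq_zero.mp h5).resolve_right fun er => h3 (by rw [er]; rfl)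
        rw [hss, act_one, Equiv.Perm.one_apply] at hu
        obtain ⟨y, hy⟩ := hG c' 1
        obtain ⟨x, hx⟩ := C.line_of_common hF (hg c') (hg c) one_ne_zero hu.symm y
        obtain ⟨x', hx'⟩ := hG c 1
        have : x = x' := C.inj_third hF (hg c) (hg1 c) (hW c) (by rw [← hx, hy, hx'])
        rw [hy, this, hx', hφ1, hφ1] at hx
        have hcc : c = c' := Subtype.ext (congrArg Prod.fst hx).symm
        rw [sub_eq_zero] at hss
        rw [hss, hcc]
    · obtain ⟨y, rfl⟩ := QuotientGroup.mk_surjective y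
      by_cases hy : ((y : Equiv.Perm (F × F × F)) (1, 0, 0)).2 = 0
      · exact ⟨none, QuotientGroup.eq.mpr (by rw [inv_one, one_mul]; exact hy)⟩
      obtain ⟨s, hs⟩ := C.exists_shift hF y.2 hy
      have hy1 : act s 1 * (y : Equiv.Perm (F × F × F)) ∈ H := mul_mem (C.act_mem _ _) y.2
      have hne : ((act s 1 * (y : Equiv.Perm (F × F × F))) (1, 0, 0)).2 ≠ 0 := fun e => by
        rw [Equiv.Perm.mul_apply] at e
        generalize (y : Equiv.Perm (F × F × F)) (1, 0, 0) = v at hy e
        obtain ⟨z, a, r⟩ := v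
        simp only [act_apply, Units.val_one, one_mul, Prod.mk_eq_zero] at e
        obtain ⟨e1, rfl⟩ := e
        rw [mul_zero, add_zero] at e1
        exact hy (Prod.ext e1 rfl)
      obtain ⟨ψ, hψ, hGy⟩ := C.exists_graph hF hy1 hs ⟨1, hne⟩
      obtain ⟨x₁, hx₁⟩ := hGy 1
      have hc : ψ 1 ∈ Phi H := ⟨_, hy1, x₁, hx₁⟩
      refine ⟨some (-s, ⟨ψ 1, hc⟩), QuotientGroup.eq.mpr ?_⟩
      show (((act (-s) 1 * g ⟨ψ 1, hc⟩)⁻¹ * (y : Equiv.Perm (F × F × F))) (1, 0, 0)).2 = 0
      obtain ⟨y₁, hy₁⟩ := hG ⟨ψ 1, hc⟩ 1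
      rw [hφ1] at hy₁
      have hx0 : x₁ ≠ 0 := fun e => by
        rw [e, show ((0, 0, 0) : F × F × F) = 0 from rfl, C.map_zero hF hy1] at hx₁
        exact one_ne_zero (congrArg (fun v : F × F × F => v.2.2) hx₁).symm
      obtain ⟨x', hx'⟩ := C.line_of_common hF hy1 (hg ⟨ψ 1, hc⟩) hx0 (z' := y₁) (hx₁.trans hy₁.symm) 1
      have hinv : (act (-s) 1 : Equiv.Perm (F × F × F)) * act s 1 = 1 := by
        rw [act_mul, one_mul, Units.val_one, mul_one, add_neg_cancel, act_one]
      have : (y : Equiv.Perm (F × F × F)) (1, 0, 0) = (act (-s) 1 * g ⟨ψ 1, hc⟩) (x', 0, 0) := by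
        rw [Equiv.Perm.mul_apply, ← hx', ← Equiv.Perm.mul_apply, ← mul_assoc, hinv, one_mul]
      rw [Equiv.Perm.mul_apply, this, Equiv.Perm.coe_inv, Equiv.symm_apply_apply]
      rfl
  rw [Subgroup.index, ← Nat.card_eq_of_bijective Ψ hΨ, Finite.card_option, Nat.card_prod]

theorem index_plane : ((C.lineStab hF).subgroupOf (C.tauCent)).index = Nat.card (Phi H) + 1 := by
  choose g hg hW φ hφ hG hφ1 hg1 using fun c : Phi H => C.rep hF c.2
  choose s hs using fun c : Phi H => C.exists_centralizing hF (hg c) (hW c)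
  let g' : Phi H → C.tauCent := fun c =>
    ⟨⟨g c * act (s c) 1, mul_mem (hg c) (C.act_mem _ _)⟩, (C.mem_tauCent hF).mpr (hs c)⟩
  let Ψ : Option (Phi H) → C.tauCent ⧸ (C.lineStab hF).subgroupOf (C.tauCent) := fun o => match o with
    | none => QuotientGroup.mk 1
    | some c => QuotientGroup.mk (g' c)
  have happ : ∀ c x, ((g' c).1 : Equiv.Perm (F × F × F)) (x, 0, 0) = g c (x, 0, 0) := fun c x => by
    show (g c * act (s c) 1) (x, 0, 0) = _
    rw [Equiv.Perm.mul_apply, act_fix_left]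
  have hΨ : Function.Bijective Ψ := by
    refine ⟨?_, fun y => ?_⟩
    · have hno : ∀ c, (QuotientGroup.mk 1 : C.tauCent ⧸ (C.lineStab hF).subgroupOf (C.tauCent)) ≠
          QuotientGroup.mk (g' c) := by
        intro c e
        have h := QuotientGroup.eq.mp e
        rw [inv_one, one_mul] at h
        change (((g' c).1 : Equiv.Perm (F × F × F)) (1, 0, 0)).2 = 0 at h
        rw [happ] at h
        exact hg1 c h
      rintro (_ | c) (_ | c') e
      · rfl
      · exact absurd e (hno _)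
      · exact absurd e.symm (hno _)
      · have h := QuotientGroup.eq.mp e
        change ((((g' c).1 : Equiv.Perm (F × F × F))⁻¹ * (g' c').1) (1, 0, 0)).2 = 0 at h
        set z := ((((g' c).1 : Equiv.Perm (F × F × F))⁻¹ * (g' c').1) (1, 0, 0)).1
        have hz : (((g' c).1 : Equiv.Perm (F × F × F))⁻¹ * (g' c').1) (1, 0, 0) = (z, 0, 0) := Prod.ext rfl h
        rw [Equiv.Perm.mul_apply, Equiv.Perm.coe_inv, Equiv.symm_apply_eq, happ, happ] at hz
        obtain ⟨y, hy⟩ := hG c' 1
        obtain ⟨x, hx⟩ := C.line_of_common hF (hg c') (hg c) one_ne_zero hz y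
        obtain ⟨x', hx'⟩ := hG c 1
        have : x = x' := C.inj_third hF (hg c) (hg1 c) (hW c) (by rw [← hx, hy, hx'])
        rw [hy, this, hx', hφ1, hφ1] at hx
        rw [show c = c' from Subtype.ext (congrArg Prod.fst hx).symm]
    · obtain ⟨y, rfl⟩ := QuotientGroup.mk_surjective y
      by_cases hy : ((y.1 : Equiv.Perm (F × F × F)) (1, 0, 0)).2 = 0
      · exact ⟨none, QuotientGroup.eq.mpr (by rw [inv_one, one_mul]; exact hy)⟩
      obtain ⟨ψ, hψ, hGy⟩ := C.exists_graph hF y.1.2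
        (C.centralizer_plane hF y.1.2 ((C.mem_tauCent hF).mp y.2)) ⟨1, hy⟩
      obtain ⟨x₁, hx₁⟩ := hGy 1
      have hc : ψ 1 ∈ Phi H := ⟨_, y.1.2, x₁, hx₁⟩
      refine ⟨some ⟨ψ 1, hc⟩, QuotientGroup.eq.mpr ?_⟩
      show ((((g' ⟨ψ 1, hc⟩).1 : Equiv.Perm (F × F × F))⁻¹ * y.1) (1, 0, 0)).2 = 0
      obtain ⟨y₁, hy₁⟩ := hG ⟨ψ 1, hc⟩ 1
      rw [hφ1] at hy₁
      have hx0 : x₁ ≠ 0 := fun e => by
        rw [e, show ((0, 0, 0) : F × F × F) = 0 from rfl, C.map_zero hF y.1.2] at hx₁
        exact one_ne_zero (congrArg (fun v : F × F × F => v.2.2) hx₁).symm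
      obtain ⟨x', hx'⟩ := C.line_of_common hF y.1.2 (hg ⟨ψ 1, hc⟩) hx0 (z' := y₁) (hx₁.trans hy₁.symm) 1
      rw [← happ] at hx'
      rw [Equiv.Perm.mul_apply, hx', Equiv.Perm.coe_inv, Equiv.symm_apply_apply]
      rfl
  rw [Subgroup.index, ← Nat.card_eq_of_bijective Ψ hΨ, Finite.card_option]

theorem card_lineStab :
    Nat.card (C.lineStab hF) = Nat.card F * Nat.card (C.lineStab hF ⊓ C.tauCent : Subgroup H) := by
  let Ψ : F × (C.lineStab hF ⊓ C.tauCent : Subgroup H) → C.lineStab hF := fun sk =>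
    ⟨⟨act sk.1 1, C.act_mem _ _⟩ * sk.2.1, mul_mem (show ((act sk.1 1) (1, 0, 0)).2 = 0 by
      rw [act_fix_left]; rfl) sk.2.2.1⟩
  rw [← Nat.card_prod, Nat.card_eq_of_bijective Ψ]
  refine ⟨fun sk sk' e => ?_, fun y => ?_⟩
  · obtain ⟨s, k, hk⟩ := sk
    obtain ⟨s', k', hk'⟩ := sk'
    have e' : act s 1 * (k : Equiv.Perm (F × F × F)) = act s' 1 * k' := congrArg (fun u => (u.1.1 :
      Equiv.Perm (F × F × F))) e
    have hcm : tau F * act (s' - s) 1 = act (s' - s) 1 * tau F := by
      have e2 : act (s' - s) 1 = (k : Equiv.Perm (F × F × F)) * (k' : Equiv.Perm (F × F × F))⁻¹ := by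
        rw [show (k : Equiv.Perm (F × F × F)) = (act s 1)⁻¹ * (act s' 1 * k') by rw [← e', inv_mul_cancel_left],
          mul_assoc, mul_assoc, mul_inv_cancel, mul_one, act_inv, act_mul]
        simp [sub_eq_add_neg]
      have h1 : Commute (tau F) (k : Equiv.Perm (F × F × F)) := (C.mem_tauCent hF).mp hk.2
      have h2 : Commute (tau F) (k' : Equiv.Perm (F × F × F)) := (C.mem_tauCent hF).mp hk'.2
      rw [e2]
      exact (h1.mul_right h2.inv_right).eq
    have hs : s' - s = 0 := by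
      rw [tau, act_mul, act_mul] at hcm
      have h3 := congrFun (congrArg (fun f : Equiv.Perm (F × F × F) => ⇑f) hcm) (0, 0, 1)
      simp only [act_apply, Units.val_one, Units.val_neg, Units.val_mul, Prod.mk.injEq] at h3
      have h4 : 2 * (s' - s) = 0 := by linear_combination -h3.2.1
      exact (mul_eq_zero.mp h4).resolve_left hF.two_ne_zero
    rw [sub_eq_zero] at hs
    subst hs
    rw [mul_left_cancel_iff] at e'
    exact Prod.ext rfl (Subtype.ext (Subtype.ext e'))
  · obtain ⟨⟨n, hn⟩, hy⟩ := y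
    have hline : ∀ x, (n (x, 0, 0)).2 = 0 := fun x => C.preserve_line hF hn one_ne_zero hy x
    obtain ⟨u, hu⟩ := C.exists_centralizing hF hn fun x => congrArg Prod.fst (hline x)
    -- `n * act u` centralises `tau`; move the unipotent factor to the left
    have hconj : n * act (-u) 1 * n⁻¹ ∈ H := mul_mem (mul_mem hn (C.act_mem _ _)) (inv_mem hn)
    set z := (n (1, 0, 0)).1
    have hnz : n (1, 0, 0) = (z, 0, 0) := Prod.ext rfl (hline 1)
    have hz : z ≠ 0 := fun e => by
      rw [e, show ((0, 0, 0) : F × F × F) = 0 from rfl, ← C.map_zero hF hn] at hnz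
      exact one_ne_zero (congrArg Prod.fst (n.injective hnz))
    obtain ⟨b, d, hbd⟩ := C.cent _ hconj z hz (by
      rw [Equiv.Perm.mul_apply, Equiv.Perm.mul_apply, ← hnz, Equiv.Perm.coe_inv, Equiv.symm_apply_apply, act_fix_left])
    haveI := hF.char
    obtain ⟨b', hb'⟩ := act_pow b d p
    have hp1 : (n * act (-u) 1 * n⁻¹) ^ p = 1 := by
      rw [conj_pow, act_unipotent_pow, CharP.cast_eq_zero, zero_mul, act_one, mul_one, mul_inv_cancel]
    rw [hbd, hb'] at hp1
    have hd : d = 1 := hF.eq_one_of_pow d (by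
      have := congrFun (congrArg (fun e : Equiv.Perm (F × F × F) => ⇑e) hp1) (0, 1, 0)
      simp only [act_apply, Equiv.Perm.one_apply, mul_zero, add_zero, mul_one, Prod.mk.injEq] at this
      exact Units.ext this.2.1)
    subst hd
    refine ⟨(b, ⟨⟨n * act u 1, mul_mem hn (C.act_mem _ _)⟩, ?_, (C.mem_tauCent hF).mpr hu⟩), ?_⟩
    · show ((n * act u 1) (1, 0, 0)).2 = 0
      rw [Equiv.Perm.mul_apply, act_fix_left]
      exact hline 1
    · refine Subtype.ext (Subtype.ext ?_)
      show act b 1 * (n * act u 1) = n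
      rw [← hbd, mul_assoc, mul_assoc, inv_mul_cancel_left, act_mul]
      simp [act_one]

/-- `m` is prime to `p`. -/
theorem not_dvd_tauCent : ¬ p ∣ Nat.card (C.tauCent) := by
  intro hdvd
  haveI := Fact.mk hF.prime
  obtain ⟨g, hg⟩ := exists_prime_orderOf_dvd_card' p hdvd
  have hgp : ((g.1 : H) : Equiv.Perm (F × F × F)) ^ p = 1 := by
    have := pow_orderOf_eq_one g
    rw [hg] at this
    exact congrArg (fun u => (u.1.1 : Equiv.Perm (F × F × F))) this
  have hg1 : ((g.1 : H) : Equiv.Perm (F × F × F)) ≠ 1 := fun e => by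
    have : g = 1 := Subtype.ext (Subtype.ext e)
    rw [this, orderOf_one] at hg
    exact hF.prime.ne_one hg.symm
  have hgt : tau F * ((g.1 : H) : Equiv.Perm (F × F × F)) = ((g.1 : H) : Equiv.Perm (F × F × F)) * tau F :=
    (C.mem_tauCent hF).mp g.2
  obtain ⟨h, hh, b, hb⟩ := C.syl _ g.1.2 hgp
  have hb0 : b ≠ 0 := fun e => hg1 (by rw [hb, e, act_one, mul_one, mul_inv_cancel])
  -- the fixed vectors of `g` form the point of `h`
  have hfix : ∀ v, ((g.1 : H) : Equiv.Perm (F × F × F)) v = v → ∃ x, v = h (x, 0, 0) := by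
    intro v hv
    rw [hb, Equiv.Perm.mul_apply, Equiv.Perm.mul_apply, Equiv.Perm.coe_inv, ← Equiv.eq_symm_apply] at hv
    refine ⟨(h.symm v).1, ?_⟩
    rw [← Equiv.symm_apply_eq]
    generalize h.symm v = w at hv ⊢
    obtain ⟨z, a, r⟩ := w
    simp only [act_apply, Units.val_one, one_mul, Prod.mk.injEq] at hv
    obtain ⟨h1, h2, -⟩ := hv
    have hr : r = 0 := by
      have : b * r = 0 := add_left_cancel (h2.trans (add_zero a).symm)
      exact (mul_eq_zero.mp this).resolve_left hb0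
    have ha : a = 0 := by
      rw [hr, mul_zero, add_zero] at h1
      have : 2 * a * b = 0 := add_left_cancel (h1.trans (add_zero z).symm)
      simpa [hF.two_ne_zero, hb0] using this
    rw [hr, ha]
  have hW : ∀ x, (h (x, 0, 0)).2.1 = 0 := by
    intro x
    have hgh : ∀ y, ((g.1 : H) : Equiv.Perm (F × F × F)) (h (y, 0, 0)) = h (y, 0, 0) := fun y => by
      rw [hb, Equiv.Perm.mul_apply, Equiv.Perm.mul_apply, Equiv.Perm.coe_inv, Equiv.symm_apply_apply, act_fix_left]
    obtain ⟨x', hx'⟩ := hfix (tau F (h (x, 0, 0))) (by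
      rw [← Equiv.Perm.mul_apply, ← hgt, Equiv.Perm.mul_apply, hgh])
    by_contra hne
    have hsub : h (x - x', 0, 0) = (0, 2 * (h (x, 0, 0)).2.1, 0) := by
      rw [show ((x - x', 0, 0) : F × F × F) = (x, 0, 0) - (x', 0, 0) by ext <;> simp, C.map_sub hF hh, ← hx']
      generalize h (x, 0, 0) = v
      obtain ⟨z, a, r⟩ := v
      rw [tau_apply]
      ext <;> simp [two_mul]
    obtain ⟨s, hs⟩ := C.exists_shift hF hh (z := x) fun e => hne (congrArg Prod.fst e)
    have := hs (x - x')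
    rw [Equiv.Perm.mul_apply, hsub] at this
    simp only [act_apply, Units.val_one, one_mul, mul_zero, add_zero] at this
    exact hne ((mul_eq_zero.mp this).resolve_left hF.two_ne_zero)
  obtain ⟨s, hs⟩ := C.exists_centralizing hF hh hW
  -- transported, a unipotent element commutes with an involution
  have hcomm : act b 1 * (act s 1 * tau F * (act s 1)⁻¹) = act s 1 * tau F * (act s 1)⁻¹ * act b 1 := by
    have e1 : act s 1 * tau F * (act s 1)⁻¹ = h⁻¹ * tau F * h := by
      rw [mul_inv_eq_iff_eq_mul, mul_assoc, mul_assoc, eq_inv_mul_iff_mul_eq, ← mul_assoc, ← hs]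
    rw [e1]
    have e2 : act b 1 = h⁻¹ * ((g.1 : H) : Equiv.Perm (F × F × F)) * h := by rw [hb]; group
    rw [e2, show h⁻¹ * ((g.1 : H) : Equiv.Perm (F × F × F)) * h * (h⁻¹ * tau F * h) =
      h⁻¹ * (((g.1 : H) : Equiv.Perm (F × F × F)) * tau F) * h by group, ← hgt]
    group
  rw [tau, act_inv, act_mul, act_mul, act_mul, act_mul] at hcomm
  have h3 := congrFun (congrArg (fun f : Equiv.Perm (F × F × F) => ⇑f) hcomm) (0, 0, 1)
  simp only [act_apply, Units.val_one, Units.val_neg, Units.val_mul, inv_one, Prod.mk.injEq] at h3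
  have h4 : 2 * b = 0 := by linear_combination h3.2.1
  exact hb0 ((mul_eq_zero.mp h4).resolve_left hF.two_ne_zero)

theorem count_dvd : Nat.card (Phi H) + 1 ∣ Nat.card F - 1 := by
  set m := Nat.card (Phi H) + 1 with hm
  set K := (C.lineStab hF ⊓ C.tauCent : Subgroup H)
  have hK : Nat.card ((C.lineStab hF).subgroupOf (C.tauCent)) = Nat.card K := by
    rw [← Subgroup.inf_subgroupOf_right]
    exact Nat.card_congr (Subgroup.subgroupOfEquivOfLe inf_le_right).toEquiv
  have h1 : m * Nat.card K = Nat.card (C.tauCent) := by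
    rw [← hK, hm, ← C.index_plane hF, Subgroup.index_mul_card]
  have h2 : (Nat.card F * Nat.card (Phi H) + 1) * (Nat.card F * Nat.card K) = Nat.card H := by
    rw [← C.card_lineStab hF, ← C.index_lineStab hF, Subgroup.index_mul_card]
  have h3 := Subgroup.card_subgroup_dvd_card (C.tauCent)
  rw [← h1, ← h2, ← mul_assoc] at h3
  have h4 : m ∣ (Nat.card F * Nat.card (Phi H) + 1) * Nat.card F :=
    Nat.dvd_of_mul_dvd_mul_right Nat.card_pos h3
  haveI := hF.char
  obtain ⟨n, -, hn⟩ := FiniteField.card F p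
  have hq : Nat.card F = p ^ (n : ℕ) := by rw [Nat.card_eq_fintype_card, hn]
  have hcop : Nat.Coprime m (Nat.card F) := by
    rw [hq]
    refine Nat.Coprime.pow_right _ ((Nat.Prime.coprime_iff_not_dvd hF.prime).mpr fun h => ?_).symm
    exact C.not_dvd_tauCent hF ((h.trans (dvd_mul_right m (Nat.card K))).trans h1.dvd)
  have h5 := hcop.dvd_of_dvd_mul_right h4
  have h6 : (Nat.card F - 1) + (Nat.card F * Nat.card (Phi H) + 1) = Nat.card F * m := by
    have : 1 ≤ Nat.card F := Nat.card_pos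
    rw [hm, mul_add, mul_one]; omega
  exact (Nat.dvd_add_left h5).mp (h6 ▸ dvd_mul_left m (Nat.card F))

/-- There is exactly one graph; it is zero unless all squares are `1`. -/
theorem phi_unique : ∃ c, Phi H = {c} ∧ ∀ d : Fˣ, (d : F) * d * c = c := by
  classical
  haveI := hF.char
  set N := Nat.card (Phi H)
  -- the squares
  set Sq := (powMonoidHom 2 : Fˣ →* Fˣ).range
  set h := Nat.card Sq
  have hqeq : Nat.card F = Fintype.card F := Nat.card_eq_fintype_card
  have hcard : Nat.card F - 1 = 2 * h := by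
    have hu : Nat.card Fˣ = Nat.card F - 1 := Nat.card_units F
    have h' : h = Nat.card Fˣ / (Nat.card Fˣ).gcd 2 := IsCyclic.card_powMonoidHom_range Fˣ 2
    have h2 := hF.card
    have hg : (Nat.card Fˣ).gcd 2 = 2 := Nat.gcd_eq_right (by rw [hu]; omega)
    rw [h', hg, hu]
    omega
  have hodd : h % 2 = 1 := by
    have := hF.card
    omega
  have hh : 1 ≤ h := by omega
  obtain ⟨g₀, hg₀, z₀, hz₀⟩ := C.move
  have hne : (Phi H).Nonempty := by
    obtain ⟨s, hs⟩ := C.exists_shift hF hg₀ hz₀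
    have hg : act s 1 * g₀ ∈ H := mul_mem (C.act_mem _ _) hg₀
    by_cases he : ∃ x, ((act s 1 * g₀) (x, 0, 0)).2 ≠ 0
    · obtain ⟨φ, -, hG⟩ := C.exists_graph hF hg hs he
      obtain ⟨x, hx⟩ := hG 1
      exact ⟨φ 1, _, hg, x, hx⟩
    · push Not at he
      exfalso
      apply hz₀
      have := he z₀
      rw [Equiv.Perm.mul_apply] at this
      generalize g₀ (z₀, 0, 0) = v at this
      obtain ⟨z, a, r⟩ := v
      simp only [act_apply, Units.val_one, one_mul, Prod.mk_eq_zero] at this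
      obtain ⟨e1, rfl⟩ := this
      rw [mul_zero, add_zero] at e1
      rw [e1]; rfl
  choose g hg hW φ hφ hG hφ1 hg1 using fun c : Phi H => C.rep hF c.2
  -- the squares of the torus act on the graphs
  have key : ∀ (c : Phi H) (d : Fˣ), φ c ((d : F)⁻¹ * (d : F)⁻¹) ∈ Phi H := fun c d => by
    obtain ⟨x, hx⟩ := C.graph_torus hF (hG c) d 1
    simp only [mul_one] at hx
    exact ⟨_, mul_mem (C.act_mem _ _) (hg c), x, hx⟩
  have keyφ : ∀ (c : Phi H) (d : Fˣ) r, φ ⟨_, key c d⟩ r = φ c ((d : F)⁻¹ * (d : F)⁻¹ * r) := fun c d r =>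
    C.graph_unique hF (hg ⟨_, key c d⟩) (mul_mem (C.act_mem _ _) (hg c)) (hG _) (C.graph_torus hF (hG c) d)
      (by rw [hφ1, mul_one]) r
  have hinv : ∀ μ : Sq, ∃ d : Fˣ, ((μ : Fˣ) : F) = (d : F)⁻¹ * (d : F)⁻¹ := by
    rintro ⟨μ, e, rfl⟩
    exact ⟨e⁻¹, by simp [powMonoidHom_apply, pow_two]⟩
  choose dd hdd using hinv
  set orb : Phi H → Sq → Phi H := fun c μ => ⟨φ c ((μ : Fˣ) : F), by rw [hdd μ]; exact key c _⟩
  have orbφ : ∀ c μ r, φ (orb c μ) r = φ c (((μ : Fˣ) : F) * r) := fun c μ r => by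
    rw [show orb c μ = ⟨_, key c (dd μ)⟩ from Subtype.ext (by show φ c _ = φ c _; rw [hdd μ]), keyφ, ← hdd μ]
  have hinj : ∀ c, (∃ r, φ c r ≠ 0) → Function.Injective (orb c) := by
    rintro c ⟨r₀, hr₀⟩ μ ν e
    by_contra hne'
    have hd : ((μ : Fˣ) : F) - ((ν : Fˣ) : F) ≠ 0 := sub_ne_zero.mpr fun h' =>
      hne' (Subtype.ext (Units.ext h'))
    refine hr₀ ?_
    have h1 : ∀ r, φ c (((μ : Fˣ) : F) * r) = φ c (((ν : Fˣ) : F) * r) := fun r => by
      rw [← orbφ, ← orbφ, e]
    set d := ((μ : Fˣ) : F) - ((ν : Fˣ) : F) with hddef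
    have h2 : ((μ : Fˣ) : F) * (r₀ / d) = ((ν : Fˣ) : F) * (r₀ / d) + r₀ := by
      rw [show ((μ : Fˣ) : F) = ((ν : Fˣ) : F) + d by rw [hddef]; ring, add_mul, mul_div_cancel₀ _ hd]
    have := h1 (r₀ / d)
    rw [h2, hφ, add_eq_left] at this
    exact this
  have hdvd : N + 1 ∣ 2 * h := hcard ▸ C.count_dvd hF
  haveI : Finite (Phi H) := Subtype.finite
  have hN : 1 ≤ N := Nat.one_le_iff_ne_zero.mpr (Nat.card_ne_zero.mpr ⟨⟨⟨_, hne.some_mem⟩⟩, inferInstance⟩)
  have hzero : ∀ c c' : Phi H, (∀ r, φ c r = 0) → (∀ r, φ c' r = 0) → c = c' := fun c c' e e' =>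
    Subtype.ext (by rw [← hφ1 c, ← hφ1 c', e, e'])
  have hN1 : N = 1 ∧ ((∀ c r, φ c r = 0) ∨ h = 1) := by
    by_cases hall : ∀ c r, φ c r = 0
    · refine ⟨le_antisymm ?_ hN, Or.inl hall⟩
      have : Subsingleton (Phi H) := ⟨fun c c' => hzero c c' (hall c) (hall c')⟩
      exact Finite.card_le_one_iff_subsingleton.mpr this
    push Not at hall
    obtain ⟨c, hc⟩ := hall
    have h1 : h ≤ N := Nat.card_le_card_of_injective _ (hinj c hc)
    obtain ⟨k, hk⟩ := hdvd
    have hk1 : k = 1 := by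
      rcases Nat.lt_or_ge k 2 with h2 | h2
      · interval_cases k
        · omega
        · rfl
      · have : (N + 1) * 2 ≤ (N + 1) * k := Nat.mul_le_mul_left _ h2
        omega
    subst hk1
    have h2 : N ≤ h + 1 := by
      by_contra hlt
      -- two orbits
      have hex : ∃ c' : Phi H, c' ∉ Set.range (orb c) ∧ ∃ r, φ c' r ≠ 0 := by
        by_contra hno
        push Not at hno
        have : Function.Surjective fun o : Option Sq => match o with
            | none => if hz : ∃ c' : Phi H, ∀ r, φ c' r = 0 then hz.choose else c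
            | some μ => orb c μ := by
          intro y
          by_cases hy : y ∈ Set.range (orb c)
          · obtain ⟨μ, rfl⟩ := hy
            exact ⟨some μ, rfl⟩
          · have hz : ∃ c' : Phi H, ∀ r, φ c' r = 0 := ⟨y, hno y hy⟩
            exact ⟨none, by simp only [dif_pos hz]; exact hzero _ _ hz.choose_spec (hno y hy)⟩
        have := Nat.card_le_card_of_surjective _ this
        rw [Finite.card_option] at this
        omega
      obtain ⟨c', hc', hc''⟩ := hex
      have hdis : Function.Injective (Sum.elim (orb c) (orb c')) := by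
        refine Function.Injective.sumElim (hinj c hc) (hinj c' hc'') fun μ ν e => hc' ⟨μ / ν, ?_⟩
        refine Subtype.ext ?_
        show φ c _ = (c' : F)
        have h3 : φ c (((μ : Fˣ) : F) * ((ν : Fˣ) : F)⁻¹) = φ c' (((ν : Fˣ) : F) * ((ν : Fˣ) : F)⁻¹) := by
          rw [← orbφ, ← orbφ, e]
        rw [mul_inv_cancel₀ (Units.ne_zero _), hφ1] at h3
        rw [← h3]
        simp [div_eq_mul_inv]
      have := Nat.card_le_card_of_injective _ hdis
      rw [Nat.card_sum] at this
      omega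
    exact ⟨by omega, Or.inr (by omega)⟩
  obtain ⟨hcN, hcase⟩ := hN1
  obtain ⟨hsub, -⟩ := Nat.card_eq_one_iff_unique.mp hcN
  obtain ⟨c, hc⟩ := hne
  refine ⟨c, Set.eq_singleton_iff_unique_mem.mpr ⟨hc, fun y hy =>
    congrArg Subtype.val (hsub.elim (⟨y, hy⟩ : Phi H) ⟨c, hc⟩)⟩, fun d => ?_⟩
  rcases hcase with hall | h1
  · have h0 : c = 0 := (hφ1 ⟨c, hc⟩).symm.trans (hall ⟨c, hc⟩ 1)
    rw [h0, mul_zero]
  · have hs : Subsingleton Sq := (Finite.card_le_one_iff_subsingleton).mp h1.le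
    have e := hs.elim (⟨d ^ 2, d, rfl⟩ : Sq) 1
    have e' : (d : F) * d = 1 := by
      have := congrArg (fun u : Sq => ((u : Fˣ) : F)) e
      simpa [pow_two] using this
    rw [e', one_mul]

end Conic

end Cfsg.Lib.PspLocal
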