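import Cfsg.Agent.PspLocal.Linear

/-!
# The conic group is `PGL(2, q) × C`, `C` cyclic of order `(q - 1) / 2`
-/

set_option autoImplicit false
set_option linter.unusedSectionVars false

open Matrix

namespace Cfsg.Lib.PspLocal

variable {F : Type*} [Field F]

/-- Congruence of symmetric matrices. -/
def sym (g : Matrix (Fin 2) (Fin 2) F) (v : F × F × F) : F × F × F :=
  (g 0 0 * g 0 0 * v.1 + 2 * g 0 0 * g 0 1 * v.2.1 + g 0 1 * g 0 1 * v.2.2,
    g 0 0 * g 1 0 * v.1 + (g 0 0 * g 1 1 + g 0 1 * g 1 0) * v.2.1 + g 0 1 * g 1 1 * v.2.2,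
    g 1 0 * g 1 0 * v.1 + 2 * g 1 0 * g 1 1 * v.2.1 + g 1 1 * g 1 1 * v.2.2)

theorem sym_mul (g g' : Matrix (Fin 2) (Fin 2) F) (v : F × F × F) : sym (g * g') v = sym g (sym g' v) := by
  obtain ⟨z, a, r⟩ := v
  simp only [sym, Matrix.mul_apply, Fin.sum_univ_two]
  refine Prod.ext ?_ (Prod.ext ?_ ?_) <;> dsimp only <;> ring

theorem sym_one (v : F × F × F) : sym (1 : Matrix (Fin 2) (Fin 2) F) v = v := by
  obtain ⟨z, a, r⟩ := v
  simp [sym]

/-- Congruence as a homomorphism. -/
def symHom : GL (Fin 2) F →* Equiv.Perm (F × F × F) where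
  toFun g :=
    { toFun := sym g.val
      invFun := sym (g⁻¹).val
      left_inv := fun v => by rw [← sym_mul, ← Units.val_mul, inv_mul_cancel, Units.val_one, sym_one]
      right_inv := fun v => by rw [← sym_mul, ← Units.val_mul, mul_inv_cancel, Units.val_one, sym_one] }
  map_one' := Equiv.ext fun v => sym_one v
  map_mul' g g' := Equiv.ext fun v => by
    show sym ((g * g').val) v = sym g.val (sym g'.val v)
    rw [Units.val_mul, sym_mul]

theorem symHom_apply (g : GL (Fin 2) F) (v : F × F × F) : symHom g v = sym g.val v := rfl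

/-- Scalars. -/
def scal : Fˣ →* Equiv.Perm (F × F × F) where
  toFun c :=
    { toFun := fun v => ((c : F) * v.1, (c : F) * v.2.1, (c : F) * v.2.2)
      invFun := fun v => ((c⁻¹ : Fˣ) * v.1, (c⁻¹ : Fˣ) * v.2.1, (c⁻¹ : Fˣ) * v.2.2)
      left_inv := fun v => by simp
      right_inv := fun v => by simp }
  map_one' := Equiv.ext fun v => by simp
  map_mul' c c' := Equiv.ext fun v => by simp [mul_assoc]

theorem scal_apply (c : Fˣ) (z a r : F) : scal c (z, a, r) = ((c : F) * z, (c : F) * a, (c : F) * r) := rfl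

theorem scal_comm (c : Fˣ) (g : GL (Fin 2) F) : Commute (scal c) (symHom g) := by
  refine Equiv.ext fun v => ?_
  obtain ⟨z, a, r⟩ := v
  simp only [Equiv.Perm.mul_apply, symHom_apply, scal_apply, sym]
  refine Prod.ext ?_ (Prod.ext ?_ ?_) <;> dsimp only <;> ring

variable [Fintype F]

/-- The twist of the determinant. -/
def twist (F : Type*) [Field F] [Fintype F] : Fˣ →* Fˣ :=
  (powMonoidHom ((Fintype.card F - 1) / 2 + 1)).comp (MulEquiv.inv Fˣ).toMonoidHom

/-- The squares. -/
abbrev Squares (F : Type*) [Field F] : Subgroup Fˣ := (powMonoidHom 2 : Fˣ →* Fˣ).range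

/-- The map to the bijections of the space. -/
def conicHom (F : Type*) [Field F] [Fintype F] : GL (Fin 2) F × Squares F →* Equiv.Perm (F × F × F) where
  toFun gc := scal ((gc.2 : Fˣ) * twist F (GeneralLinearGroup.det gc.1)) * symHom gc.1
  map_one' := by simp
  map_mul' x y := by
    have h : ∀ k k' : Fˣ, scal (k * k') * (symHom x.1 * symHom y.1) = scal k * symHom x.1 * (scal k' * symHom y.1) :=
      fun k k' => by rw [map_mul, mul_assoc, mul_assoc, ← mul_assoc (scal k'), (scal_comm k' x.1).eq, mul_assoc]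
    simp only [Prod.fst_mul, Prod.snd_mul, Subgroup.coe_mul]
    rw [← h, mul_mul_mul_comm (x.2 : Fˣ), map_mul GeneralLinearGroup.det, map_mul (twist F), map_mul symHom]

theorem conicHom_apply (g : GL (Fin 2) F) (c : Squares F) :
    conicHom F (g, c) = scal ((c : Fˣ) * twist F (GeneralLinearGroup.det g)) * symHom g := rfl

variable {p : ℕ} {H : Subgroup (Equiv.Perm (F × F × F))}

namespace FieldHyp

variable (hF : FieldHyp F p)
include hF

theorem twist_square (x : Fˣ) : twist F x ∈ Squares F := by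
  obtain ⟨k, hk⟩ : ∃ k, (Fintype.card F - 1) / 2 + 1 = 2 * k := ⟨((Fintype.card F - 1) / 2 + 1) / 2, by
    have := hF.card; omega⟩
  refine ⟨x⁻¹ ^ k, ?_⟩
  show (x⁻¹ ^ k) ^ 2 = x⁻¹ ^ _
  rw [hk, ← pow_mul, mul_comm]

theorem twist_sq (x : Fˣ) : twist F (x ^ 2) * x ^ 2 = 1 := by
  show (x ^ 2)⁻¹ ^ ((Fintype.card F - 1) / 2 + 1) * x ^ 2 = 1
  rw [pow_succ, mul_assoc, inv_mul_cancel, mul_one, inv_pow, inv_eq_one, ← pow_mul,
    show 2 * ((Fintype.card F - 1) / 2) = Fintype.card F - 1 by have := hF.card; omega]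
  classical
  rw [← Fintype.card_units]
  exact pow_card_eq_one

theorem card_squares : Nat.card (Squares F) = (Fintype.card F - 1) / 2 := by
  have hu : Nat.card Fˣ = Fintype.card F - 1 := by rw [Nat.card_units, Nat.card_eq_fintype_card]
  have h := IsCyclic.card_powMonoidHom_range Fˣ 2
  have h2 := hF.card
  rw [h, Nat.gcd_eq_right (show 2 ∣ Nat.card Fˣ by rw [hu]; omega), hu]

theorem ker_eq : (conicHom F).ker =
    (MonoidHom.prodMap (ProjGenLinGroup.mk (n := Fin 2) (R := F)) (MonoidHom.id (Squares F))).ker := by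
  ext ⟨g, c⟩
  rw [MonoidHom.mem_ker, MonoidHom.mem_ker, MonoidHom.coe_prodMap, Prod.map_apply, Prod.mk_eq_one,
    ProjGenLinGroup.mk_eq_one, Matrix.GeneralLinearGroup.center_eq_range_scalar, conicHom_apply]
  constructor
  · intro h
    set k := ((c : Fˣ) * twist F (GeneralLinearGroup.det g))
    have hk := k.ne_zero
    have e1 := congrFun (congrArg (fun f : Equiv.Perm (F × F × F) => ⇑f) h) (1, 0, 0)
    have e2 := congrFun (congrArg (fun f : Equiv.Perm (F × F × F) => ⇑f) h) (0, 0, 1)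
    have e3 := congrFun (congrArg (fun f : Equiv.Perm (F × F × F) => ⇑f) h) (0, 1, 0)
    simp only [Equiv.Perm.mul_apply, symHom_apply, sym, scal_apply, Equiv.Perm.one_apply, mul_one, mul_zero,
      add_zero, zero_add, Prod.mk.injEq] at e1 e2 e3
    have h10 : g.val 1 0 = 0 := by simpa [hk] using e1.2.2
    have h01 : g.val 0 1 = 0 := by simpa [hk] using e2.1
    have h3 := e3.2.1
    rw [h01, zero_mul, add_zero] at h3
    have hx : g.val 0 0 ≠ 0 := fun e => by rw [e, zero_mul, mul_zero] at h3; exact zero_ne_one h3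
    have h11 : g.val 1 1 = g.val 0 0 := by
      refine mul_left_cancel₀ hx (mul_left_cancel₀ hk ?_)
      rw [h3, e1.1]
    set u : Fˣ := Units.mk0 _ hx
    have hg : g = GeneralLinearGroup.scalar (Fin 2) u := by
      refine Units.ext ?_
      ext i j
      rw [Matrix.GeneralLinearGroup.coe_scalar, Matrix.scalar_apply]
      fin_cases i <;> fin_cases j <;> simp [h10, h01, h11, u]
    refine ⟨⟨u, hg.symm⟩, Subtype.ext ?_⟩
    show (c : Fˣ) = 1
    have hdet : GeneralLinearGroup.det g = u ^ 2 := by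
      refine Units.ext ?_
      rw [GeneralLinearGroup.val_det_apply, Matrix.det_fin_two, h10, h01, h11, Units.val_pow_eq_pow_val,
        Units.val_mk0, pow_two, mul_zero, sub_zero]
    have hku : k * u ^ 2 = 1 := Units.ext (by
      rw [Units.val_mul, Units.val_pow_eq_pow_val, Units.val_mk0, Units.val_one, pow_two]
      exact e1.1)
    simp only [k] at hku
    rwa [hdet, mul_assoc, hF.twist_sq, mul_one] at hku
  · rintro ⟨⟨u, rfl⟩, hc⟩
    rw [MonoidHom.id_apply] at hc
    subst hc
    have hdet : GeneralLinearGroup.det (GeneralLinearGroup.scalar (Fin 2) u) = u ^ 2 := by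
      refine Units.ext ?_
      rw [GeneralLinearGroup.val_det_apply, Matrix.GeneralLinearGroup.coe_scalar, Matrix.det_fin_two]
      simp [Matrix.scalar_apply, pow_two]
    rw [hdet, OneMemClass.coe_one, one_mul]
    refine Equiv.ext fun v => ?_
    obtain ⟨z, a, r⟩ := v
    rw [Equiv.Perm.mul_apply, Equiv.Perm.one_apply, symHom_apply]
    have h1 : ((twist F (u ^ 2) : Fˣ) : F) * ((u : F) * u) = 1 := by
      have := congrArg (fun x : Fˣ => (x : F)) (hF.twist_sq u)
      simpa [pow_two] using this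
    simp only [sym, Matrix.GeneralLinearGroup.coe_scalar, Matrix.scalar_apply, diagonal_apply_eq,
      diagonal_apply_ne _ (show (0 : Fin 2) ≠ 1 by decide), diagonal_apply_ne _ (show (1 : Fin 2) ≠ 0 by decide),
      mul_zero, zero_mul, add_zero, zero_add, scal_apply, ← mul_assoc] at h1 ⊢
    rw [h1, one_mul, one_mul, one_mul]

end FieldHyp

namespace Normal

variable (N : Normal p H) (hF : FieldHyp F p)
include N hF

theorem scal_mem {c : Fˣ} (hc : c ∈ Squares F) : scal c ∈ H := by
  obtain ⟨d, rfl⟩ := hc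
  have : scal ((powMonoidHom 2 : Fˣ →* Fˣ) d) = act 0 d * dia d := by
    ext1 ⟨z, a, r⟩
    simp only [scal_apply, powMonoidHom_apply, Units.val_pow_eq_pow_val, Equiv.Perm.mul_apply, dia_apply, act_apply]
    refine Prod.ext ?_ (Prod.ext ?_ ?_) <;> dsimp only <;> ring
  rw [this]
  exact mul_mem (N.conic.act_mem _ _) ((N.dia_weyl_mem hF).1 d)

theorem conicHom_mem (g : GL (Fin 2) F) (c : Squares F) : conicHom F (g, c) ∈ H := by
  rw [conicHom_apply]
  refine mul_mem (N.scal_mem hF (mul_mem c.2 (hF.twist_square _))) ?_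
  have hdet : g.val 0 0 * g.val 1 1 - g.val 0 1 * g.val 1 0 ≠ 0 := by
    rw [← Matrix.det_fin_two]
    exact (GeneralLinearGroup.det g).ne_zero
  by_cases h10 : g.val 1 0 = 0
  · rw [h10, mul_zero, sub_zero, mul_ne_zero_iff] at hdet
    have e : symHom g = scal (Units.mk0 _ hdet.1 ^ 2) *
        act (g.val 0 1 / g.val 0 0) (Units.mk0 _ (div_ne_zero hdet.2 hdet.1)) := by
      ext1 ⟨z, a, r⟩
      simp only [Equiv.Perm.mul_apply, symHom_apply, sym, act_apply, scal_apply, h10, Units.val_mk0,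
        Units.val_pow_eq_pow_val]
      have := hdet.1
      refine Prod.ext ?_ (Prod.ext ?_ ?_) <;> dsimp only <;> field_simp <;> ring
    rw [e]
    exact mul_mem (N.scal_mem hF ⟨_, rfl⟩) (N.conic.act_mem _ _)
  · have he : g.val 0 1 - g.val 0 0 * g.val 1 1 / g.val 1 0 ≠ 0 := fun e => hdet (by
      field_simp at e
      linear_combination -e)
    have hx : -g.val 1 0 ≠ 0 := neg_ne_zero.mpr h10
    have e : symHom g = act (g.val 0 0 / g.val 1 0) 1 * weyl F * (scal (Units.mk0 _ hx ^ 2) *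
        act (-g.val 1 1 / -g.val 1 0) (Units.mk0 _ (div_ne_zero he hx))) := by
      ext1 ⟨z, a, r⟩
      simp only [Equiv.Perm.mul_apply, symHom_apply, sym, act_apply, scal_apply, weyl_apply, Units.val_mk0,
        Units.val_one, Units.val_pow_eq_pow_val]
      refine Prod.ext ?_ (Prod.ext ?_ ?_) <;> dsimp only <;> field_simp <;> ring
    rw [e]
    exact mul_mem (mul_mem (N.conic.act_mem _ _) (N.dia_weyl_mem hF).2)
      (mul_mem (N.scal_mem hF ⟨_, rfl⟩) (N.conic.act_mem _ _))

theorem mem_range {h : Equiv.Perm (F × F × F)} (hh : h ∈ H) : h ∈ (conicHom F).range := by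
  have key : ∀ (g : GL (Fin 2) F), ∃ c : Squares F, conicHom F (g, c) = symHom g := fun g =>
    ⟨(⟨_, hF.twist_square (GeneralLinearGroup.det g)⟩ : Squares F)⁻¹, by
      rw [conicHom_apply, Subgroup.coe_inv, inv_mul_cancel, map_one, one_mul]⟩
  have hsym : ∀ (M : Matrix (Fin 2) (Fin 2) F), M.det ≠ 0 → ∀ t : Equiv.Perm (F × F × F),
      (∀ z a r, t (z, a, r) = sym M (z, a, r)) → t ∈ (conicHom F).range := by
    intro M hM t ht
    obtain ⟨c, hc⟩ := key (GeneralLinearGroup.mkOfDetNeZero M hM)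
    exact ⟨_, hc.trans (Equiv.ext fun v => by obtain ⟨z, a, r⟩ := v; rw [symHom_apply, ht]; rfl)⟩
  have hact : ∀ (b : F) (d : Fˣ), act b d ∈ (conicHom F).range := fun b d =>
    hsym !![1, b; 0, (d : F)] (by simp [Matrix.det_fin_two]) _ fun z a r => by
      simp [act_apply, sym]
      exact ⟨by ring, by ring⟩
  have hdia : ∀ u : Fˣ, dia u ∈ (conicHom F).range := fun u =>
    hsym !![(u : F), 0; 0, 1] (by simp [Matrix.det_fin_two]) _ fun z a r => by
      simp [dia_apply, sym]
  have hweyl : weyl F ∈ (conicHom F).range :=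
    hsym !![0, 1; -1, 0] (by simp [Matrix.det_fin_two]) _ fun z a r => by
      simp [weyl_apply, sym]
  have C := N.conic
  have hstab : ∀ n ∈ H, (n (1, 0, 0)).2 = 0 → n ∈ (conicHom F).range := by
    intro n hn hn2
    set z := (n (1, 0, 0)).1
    have hnz : n (1, 0, 0) = (z, 0, 0) := Prod.ext rfl hn2
    have hz : z ≠ 0 := fun e => by
      rw [e, show ((0, 0, 0) : F × F × F) = 0 from rfl, ← C.map_zero hF hn] at hnz
      exact one_ne_zero (congrArg Prod.fst (n.injective hnz))
    obtain ⟨z₀, hz₀, hnf⟩ := C.fusion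
    obtain ⟨d, hd | hd⟩ := hF.square_or_neg z₀ hz₀
    · exact absurd (by rw [dia_apply, mul_zero, mul_one, hd]) (hnf (dia d) ((N.dia_weyl_mem hF).1 d))
    obtain ⟨e, he | he⟩ := hF.square_or_neg z hz
    · have hm : dia e⁻¹ * n ∈ H := mul_mem ((N.dia_weyl_mem hF).1 _) hn
      obtain ⟨b, δ, hb⟩ := C.cent _ hm 1 one_ne_zero (by
        rw [Equiv.Perm.mul_apply, hnz, dia_apply, he, mul_zero, Units.val_inv_eq_inv_val]
        have := e.ne_zero
        refine Prod.ext ?_ rfl
        show (e : F)⁻¹ * (e : F)⁻¹ * ((e : F) * e) = 1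
        field_simp)
      have hn' : n = (dia e⁻¹)⁻¹ * act b δ := by rw [← hb, inv_mul_cancel_left]
      rw [hn']
      exact mul_mem (inv_mem (hdia _)) (hact _ _)
    · refine absurd ?_ (hnf (dia (d / e) * n) (mul_mem ((N.dia_weyl_mem hF).1 _) hn))
      rw [Equiv.Perm.mul_apply, hnz, dia_apply, mul_zero, hd, he, Units.val_div_eq_div_val]
      have := e.ne_zero
      refine Prod.ext ?_ rfl
      show (d : F) / e * ((d : F) / e) * -((e : F) * e) = -((d : F) * d)
      field_simp
  by_cases h0 : (h (1, 0, 0)).2 = 0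
  · exact hstab h hh h0
  obtain ⟨s, hs⟩ := C.exists_shift hF hh h0
  have hg : act s 1 * h ∈ H := mul_mem (C.act_mem _ _) hh
  have h1 := hs 1
  have h2 := N.plane _ hg 1 h1
  have hz : ((act s 1 * h) (1, 0, 0)).1 = 0 := h2.resolve_right fun e => h0 (by
    rw [Equiv.Perm.mul_apply] at e h1
    generalize h (1, 0, 0) = v at e h1
    obtain ⟨z, a, r⟩ := v
    simp only [act_apply, Units.val_one, one_mul] at e h1
    rw [e, mul_zero, add_zero] at h1
    exact Prod.ext h1 e)
  have h3 : weyl F * (act s 1 * h) ∈ (conicHom F).range := by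
    refine hstab _ (mul_mem (N.dia_weyl_mem hF).2 hg) ?_
    rw [Equiv.Perm.mul_apply]
    generalize (act s 1 * h) (1, 0, 0) = v at hz h1 ⊢
    obtain ⟨z, a, r⟩ := v
    simp only at hz h1
    rw [weyl_apply, hz, h1, neg_zero]
    rfl
  exact (Subgroup.mul_mem_cancel_left _ (hact s 1)).mp ((Subgroup.mul_mem_cancel_left _ hweyl).mp h3)

theorem iso : Nonempty (H ≃* ProjGenLinGroup (Fin 2) F × Multiplicative (ZMod ((Fintype.card F - 1) / 2))) := by
  have hr : (conicHom F).range = H := le_antisymm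
    (fun _ ⟨⟨g, c⟩, e⟩ => e ▸ N.conicHom_mem hF g c) (fun h hh => N.mem_range hF hh)
  let π := MonoidHom.prodMap (ProjGenLinGroup.mk (n := Fin 2) (R := F)) (MonoidHom.id (Squares F))
  have hπ : Function.Surjective π := Function.Surjective.prodMap ProjGenLinGroup.mk_surjective Function.surjective_id
  refine ⟨(MulEquiv.subgroupCongr hr).symm.trans ((QuotientGroup.quotientKerEquivRange (conicHom F)).symm.trans
    ((QuotientGroup.quotientMulEquivOfEq hF.ker_eq).trans
      ((QuotientGroup.quotientKerEquivOfSurjective π hπ).trans (MulEquiv.prodCongr (MulEquiv.refl _) ?_))))⟩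
  rw [← hF.card_squares]
  exact (zmodCyclicMulEquiv inferInstance).symm

end Normal

theorem Conic.iso (C : Conic p H) (hF : FieldHyp F p) :
    Nonempty (H ≃* ProjGenLinGroup (Fin 2) F × Multiplicative (ZMod ((Fintype.card F - 1) / 2))) := by
  obtain ⟨σ, N⟩ := C.exists_normal hF
  obtain ⟨e⟩ := N.iso hF
  exact ⟨(MulEquiv.subgroupMap (MulAut.conj σ) H).trans e⟩

end Cfsg.Lib.PspLocal
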