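import Cfsg.Agent.PspLocal.Normal

/-!
# Linearity: the torus pair and the Weyl element

The stabilizer of the two points consists of the maps `(z, a, r) ↦ (α² z, α a, r)` followed by torus elements, and
the group contains `(z, a, r) ↦ (r, -a, z)`.
-/

set_option autoImplicit false
set_option linter.unusedSectionVars false

namespace Cfsg.Lib.PspLocal

variable {F : Type*} [Field F] [Fintype F] {p : ℕ} {H : Subgroup (Equiv.Perm (F × F × F))}

/-- The element `(z, a, r) ↦ (r, -a, z)`. -/
def weyl (F : Type*) [Field F] : Equiv.Perm (F × F × F) where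
  toFun v := (v.2.2, -v.2.1, v.1)
  invFun v := (v.2.2, -v.2.1, v.1)
  left_inv v := by simp
  right_inv v := by simp

theorem weyl_apply (z a r : F) : weyl F (z, a, r) = (r, -a, z) := rfl

/-- The torus fixing the second point. -/
def dia (α : Fˣ) : Equiv.Perm (F × F × F) where
  toFun v := ((α : F) * α * v.1, (α : F) * v.2.1, v.2.2)
  invFun v := ((α⁻¹ : Fˣ) * (α⁻¹ : Fˣ) * v.1, (α⁻¹ : Fˣ) * v.2.1, v.2.2)
  left_inv v := by
    have := α.ne_zero
    obtain ⟨z, a, r⟩ := v
    simp only [Units.val_inv_eq_inv_val]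
    refine Prod.ext ?_ (Prod.ext ?_ rfl) <;> dsimp only <;> field_simp
  right_inv v := by
    have := α.ne_zero
    obtain ⟨z, a, r⟩ := v
    simp only [Units.val_inv_eq_inv_val]
    refine Prod.ext ?_ (Prod.ext ?_ rfl) <;> dsimp only <;> field_simp

theorem dia_apply (α : Fˣ) (z a r : F) : dia α (z, a, r) = ((α : F) * α * z, (α : F) * a, r) := rfl

namespace Normal

variable (N : Normal p H) (hF : FieldHyp F p)
include N hF

theorem add3 {h : Equiv.Perm (F × F × F)} (hh : h ∈ H) (z a r : F) :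
    h (z, a, r) = h (z, 0, 0) + h (0, a, 0) + h (0, 0, r) := by
  rw [← N.conic.additive h hh, ← N.conic.additive h hh]
  simp

/-- Every vector of a point lies on the cone `z r = a²`. -/
theorem cone {h : Equiv.Perm (F × F × F)} (hh : h ∈ H) (x : F) :
    (h (x, 0, 0)).1 * (h (x, 0, 0)).2.2 = (h (x, 0, 0)).2.1 * (h (x, 0, 0)).2.1 := by
  by_cases h0 : (h (x, 0, 0)).2 = 0
  · have h1 : (h (x, 0, 0)).2.1 = 0 := congrArg Prod.fst h0
    have h2 : (h (x, 0, 0)).2.2 = 0 := congrArg Prod.snd h0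
    rw [h1, h2, mul_zero, mul_zero]
  obtain ⟨s, hs⟩ := N.conic.exists_shift hF hh h0
  have h1 := hs x
  have h2 := N.plane (act s 1 * h) (mul_mem (N.conic.act_mem _ _) hh) x h1
  rw [Equiv.Perm.mul_apply] at h1 h2
  generalize h (x, 0, 0) = v at h1 h2 ⊢
  obtain ⟨z, a, r⟩ := v
  simp only [act_apply, Units.val_one, one_mul] at h1 h2 ⊢
  rcases h2 with h2 | h2
  · linear_combination r * h2 - (a + s * r) * h1
  · rw [h2, mul_zero, add_zero] at h1
    rw [h1, h2, mul_zero, mul_zero]

/-- The companion exchanges the two lines and preserves the middle one. -/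
theorem companion_shape : ∃ w ∈ H, ∃ ψ η χ : F → F, (∀ x y, ψ (x + y) = ψ x + ψ y) ∧
    (∀ x y, η (x + y) = η x + η y) ∧ (∀ x y, χ (x + y) = χ x + χ y) ∧
    Function.Bijective ψ ∧ Function.Bijective η ∧ Function.Bijective χ ∧
    ∀ z a r, w (z, a, r) = (ψ r, η a, χ z) := by
  obtain ⟨w, hw, hwt, hR⟩ := N.companion
  have hW := N.conic.centralizer_plane hF hw hwt
  have hne : (w (1, 0, 0)).2 ≠ 0 := by
    intro e
    obtain ⟨x, hx⟩ := hR 1
    have := N.conic.preserve_line hF hw one_ne_zero e x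
    rw [hx] at this
    exact one_ne_zero (congrArg Prod.snd this)
  have hZ : ∀ x, (w (x, 0, 0)).1 = 0 ∧ (w (x, 0, 0)).2.1 = 0 := by
    intro x
    refine ⟨?_, hW x⟩
    rcases N.plane w hw x (hW x) with h | h
    · exact h
    · have : x = 0 := N.conic.inj_third hF hw hne hW (y := 0) (by
        rw [h, show ((0, 0, 0) : F × F × F) = 0 from rfl, N.conic.map_zero hF hw]; rfl)
      rw [this, show ((0, 0, 0) : F × F × F) = 0 from rfl, N.conic.map_zero hF hw]; rfl
  have hA : ∀ a, (w (0, a, 0)).1 = 0 ∧ (w (0, a, 0)).2.2 = 0 := by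
    intro a
    have h := congrFun (congrArg (fun f : Equiv.Perm (F × F × F) => ⇑f) hwt) (0, a, 0)
    simp only [Equiv.Perm.mul_apply, tau_apply] at h
    rw [show ((0, -a, 0) : F × F × F) = -(0, a, 0) by ext <;> simp, N.conic.map_neg hF hw] at h
    generalize w (0, a, 0) = v at h ⊢
    obtain ⟨z', a', r'⟩ := v
    rw [tau_apply, Prod.neg_mk, Prod.neg_mk, Prod.mk.injEq, Prod.mk.injEq] at h
    have h1 : 2 * z' = 0 := by linear_combination h.1
    have h2 : 2 * r' = 0 := by linear_combination h.2.2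
    exact ⟨(mul_eq_zero.mp h1).resolve_left hF.two_ne_zero, (mul_eq_zero.mp h2).resolve_left hF.two_ne_zero⟩
  have hR' : ∀ r, (w (0, 0, r)).2.1 = 0 ∧ (w (0, 0, r)).2.2 = 0 := by
    intro r
    obtain ⟨x, hx⟩ := hR r
    have hww : (w * w) (x, 0, 0) = w (0, 0, r) := by rw [Equiv.Perm.mul_apply, hx]
    have hmem := mul_mem hw hw
    have ha : ((w * w) (x, 0, 0)).2.1 = 0 :=
      N.conic.centralizer_plane hF hmem ((Commute.mul_right hwt hwt).eq) x
    refine ⟨hww ▸ ha, ?_⟩
    rcases N.plane _ hmem x ha with h | h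
    · by_contra hne'
      obtain ⟨y, hy⟩ := hR (w (0, 0, r)).2.2
      have e : w (0, 0, r) = w (y, 0, 0) := by
        rw [hy]
        exact Prod.ext (hww ▸ h) (Prod.ext (hww ▸ ha) rfl)
      have := congrArg (fun v : F × F × F => v.2.2) (w.injective e)
      simp only at this
      rw [this, show ((0, 0, 0) : F × F × F) = 0 from rfl, N.conic.map_zero hF hw] at hne'
      exact hne' rfl
    · exact hww ▸ h
  set ψ := fun r => (w (0, 0, r)).1
  set η := fun a => (w (0, a, 0)).2.1
  set χ := fun z => (w (z, 0, 0)).2.2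
  have hform : ∀ z a r, w (z, a, r) = (ψ r, η a, χ z) := fun z a r => by
    rw [N.add3 hF hw]
    refine Prod.ext ?_ (Prod.ext ?_ ?_) <;>
      simp only [Prod.fst_add, Prod.snd_add, (hZ z).1, (hZ z).2, (hA a).1, (hA a).2, (hR' r).1, (hR' r).2,
        zero_add, add_zero, ψ, η, χ]
  refine ⟨w, hw, ψ, η, χ, fun x y => ?_, fun x y => ?_, fun x y => ?_, ?_, ?_, ?_, hform⟩
  · simp only [ψ]
    rw [show ((0, 0, x + y) : F × F × F) = (0, 0, x) + (0, 0, y) by simp, N.conic.additive w hw]; rfl
  · simp only [η]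
    rw [show ((0, x + y, 0) : F × F × F) = (0, x, 0) + (0, y, 0) by simp, N.conic.additive w hw]; rfl
  · simp only [χ]
    rw [show ((x + y, 0, 0) : F × F × F) = (x, 0, 0) + (y, 0, 0) by simp, N.conic.additive w hw]; rfl
  all_goals refine Finite.injective_iff_bijective.mp fun x y e => ?_
  · exact congrArg (fun v : F × F × F => v.2.2) (w.injective
      (show w (0, 0, x) = w (0, 0, y) by rw [hform, hform, e]))
  · exact congrArg (fun v : F × F × F => v.2.1) (w.injective
      (show w (0, x, 0) = w (0, y, 0) by rw [hform, hform, e]))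
  · exact congrArg (fun v : F × F × F => v.1) (w.injective
      (show w (x, 0, 0) = w (y, 0, 0) by rw [hform, hform, e]))

/-- Diagonal elements with identity third part are the tori `dia α`. -/
theorem diag_linear {k : Equiv.Perm (F × F × F)} (hk : k ∈ H) {ζ α : F → F}
    (hζ : ∀ x y, ζ (x + y) = ζ x + ζ y) (hα : ∀ x y, α (x + y) = α x + α y)
    (hform : ∀ z a r, k (z, a, r) = (ζ z, α a, r)) : ∃ u : Fˣ, k = dia u := by
  have C := N.conic
  have hinv : ∀ z, k⁻¹ (z, 0, 0) = ((k⁻¹ (z, 0, 0)).1, 0, 0) := by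
    intro z
    have h0 : ζ 0 = 0 := by
      have := hζ 0 0
      rwa [add_zero, left_eq_add] at this
    have hbij : Function.Bijective ζ := Finite.injective_iff_bijective.mp fun x y e =>
      congrArg (fun v : F × F × F => v.1) (k.injective
        (show k (x, 0, 0) = k (y, 0, 0) by rw [hform, hform, e]))
    obtain ⟨y, rfl⟩ := hbij.2 z
    have hα0 : α 0 = 0 := by
      have := hα 0 0
      rwa [add_zero, left_eq_add] at this
    have : k (y, 0, 0) = (ζ y, 0, 0) := by rw [hform, hα0]
    rw [← this, Equiv.Perm.coe_inv, Equiv.symm_apply_apply]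
  -- commutation with the squares of the torus
  have hsq : ∀ (e : Fˣ) (a : F), α ((e : F) * e * a) = (e : F) * e * α a := by
    intro e a
    have hm : k * act 0 e * k⁻¹ ∈ H := mul_mem (mul_mem hk (C.act_mem _ _)) (inv_mem hk)
    obtain ⟨b, d, hbd⟩ := C.cent _ hm 1 one_ne_zero (by
      rw [Equiv.Perm.mul_apply, Equiv.Perm.mul_apply, hinv, act_fix_left, ← hinv, Equiv.Perm.coe_inv,
        Equiv.apply_symm_apply])
    have hbd' : k * act 0 e = act b d * k := by rw [← hbd, inv_mul_cancel_right]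
    have h1 := congrFun (congrArg (fun f : Equiv.Perm (F × F × F) => ⇑f) hbd') (0, 0, 1)
    have h2 := congrFun (congrArg (fun f : Equiv.Perm (F × F × F) => ⇑f) hbd') (0, a, 0)
    have hα0 : α 0 = 0 := by
      have := hα 0 0
      rwa [add_zero, left_eq_add] at this
    have hζ0 : ζ 0 = 0 := by
      have := hζ 0 0
      rwa [add_zero, left_eq_add] at this
    simp only [Equiv.Perm.mul_apply, act_apply, hform, hα0, hζ0, mul_zero, zero_mul, add_zero, zero_add, mul_one,
      Prod.mk.injEq] at h1 h2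
    have hb : b = 0 := by
      rcases mul_eq_zero.mp h1.2.1.symm with h | h
      · exact absurd h d.ne_zero
      · exact h
    have h3 : α ((e : F) * a) = (d : F) * α a := h2.2.1
    rcases mul_self_eq_mul_self_iff.mp h1.2.2 with hde | hde
    · have key : ∀ a, α ((e : F) * a) = (e : F) * α a := fun a => by
        have h2 := congrFun (congrArg (fun f : Equiv.Perm (F × F × F) => ⇑f) hbd') (0, a, 0)
        simp only [Equiv.Perm.mul_apply, act_apply, hform, hζ0, mul_zero, zero_mul, add_zero, zero_add,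
          Prod.mk.injEq] at h2
        rw [h2.2.1, hde]
      rw [mul_assoc, key, key, mul_assoc]
    · have key : ∀ a, α ((e : F) * a) = -((e : F) * α a) := fun a => by
        have h2 := congrFun (congrArg (fun f : Equiv.Perm (F × F × F) => ⇑f) hbd') (0, a, 0)
        simp only [Equiv.Perm.mul_apply, act_apply, hform, hζ0, mul_zero, zero_mul, add_zero, zero_add,
          Prod.mk.injEq] at h2
        rw [h2.2.1, hde]; ring
      rw [mul_assoc, key, key]; ring
  have hαlin : ∀ a, α a = α 1 * a := hF.linear_of_squares α hα hsq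
  have hα1 : α 1 ≠ 0 := fun e => by
    have : k (0, 1, 0) = k (0, 0, 0) := by rw [hform, hform, e, hαlin 0, mul_zero]
    exact one_ne_zero (congrArg (fun v : F × F × F => v.2.1) (k.injective this))
  refine ⟨Units.mk0 (α 1) hα1, ?_⟩
  -- a unipotent element gives the first part
  have hζlin : ∀ x, ζ x = α 1 * α 1 * x := by
    refine hF.ext_of_squares ζ (fun x => α 1 * α 1 * x) hζ (fun _ _ => mul_add _ _ _) fun b => ?_
    have hm : k * act (b : F) 1 * k⁻¹ ∈ H := mul_mem (mul_mem hk (C.act_mem _ _)) (inv_mem hk)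
    obtain ⟨β, d, hbd⟩ := C.cent _ hm 1 one_ne_zero (by
      rw [Equiv.Perm.mul_apply, Equiv.Perm.mul_apply, hinv, act_fix_left, ← hinv, Equiv.Perm.coe_inv,
        Equiv.apply_symm_apply])
    have hbd' : k * act (b : F) 1 = act β d * k := by rw [← hbd, inv_mul_cancel_right]
    haveI := hF.char
    obtain ⟨b', hb'⟩ := act_pow β d p
    have hp1 : (k * act (b : F) 1 * k⁻¹) ^ p = 1 := by
      rw [conj_pow, act_unipotent_pow, CharP.cast_eq_zero, zero_mul, act_one, mul_one, mul_inv_cancel]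
    rw [hbd, hb'] at hp1
    have hd : d = 1 := hF.eq_one_of_pow d (by
      have := congrFun (congrArg (fun e : Equiv.Perm (F × F × F) => ⇑e) hp1) (0, 1, 0)
      simp only [act_apply, Equiv.Perm.one_apply, mul_zero, add_zero, mul_one, Prod.mk.injEq] at this
      exact Units.ext this.2.1)
    subst hd
    have hζ0 : ζ 0 = 0 := by
      have := hζ 0 0
      rwa [add_zero, left_eq_add] at this
    have h1 := congrFun (congrArg (fun f : Equiv.Perm (F × F × F) => ⇑f) hbd') (0, 0, 1)
    simp only [Equiv.Perm.mul_apply, act_apply, hform, hαlin 0, hζ0, mul_zero, zero_mul, add_zero, zero_add,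
      mul_one, one_mul, Units.val_one, Prod.mk.injEq] at h1
    obtain ⟨e1, e2, -⟩ := h1
    rw [hαlin] at e2
    rw [e1, ← e2]; ring
  ext1 ⟨z, a, r⟩
  rw [hform, dia_apply, hζlin]
  conv_lhs => rw [hαlin a]
  rfl

/-- All tori fixing the second point, the Weyl element. -/
theorem dia_weyl_mem : (∀ u : Fˣ, dia u ∈ H) ∧ weyl F ∈ H := by
  obtain ⟨w, hw, ψ, η, χ, hψ, hη, hχ, bψ, bη, bχ, hform⟩ := N.companion_shape hF
  have C := N.conic
  have η0 : η 0 = 0 := by
    have := hη 0 0
    rwa [add_zero, left_eq_add] at this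
  have ψ0 : ψ 0 = 0 := by
    have := hψ 0 0
    rwa [add_zero, left_eq_add] at this
  have χ0 : χ 0 = 0 := by
    have := hχ 0 0
    rwa [add_zero, left_eq_add] at this
  have hη1 : η 1 ≠ 0 := fun e => one_ne_zero (bη.1 (e.trans η0.symm))
  have hψ1 : ψ 1 ≠ 0 := fun e => one_ne_zero (bψ.1 (e.trans ψ0.symm))
  -- the conjugates of the torus
  have hk : ∀ d : Fˣ, ∃ u : Fˣ, dia u ∈ H ∧ w * act 0 d = dia u * w := by
    intro d
    have hm : w * act 0 d * w⁻¹ ∈ H := mul_mem (mul_mem hw (C.act_mem _ _)) (inv_mem hw)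
    have sψ : ∀ z, ψ ((Equiv.ofBijective ψ bψ).symm z) = z := fun z => Equiv.ofBijective_apply_symm_apply ψ bψ z
    have sη : ∀ z, η ((Equiv.ofBijective η bη).symm z) = z := fun z => Equiv.ofBijective_apply_symm_apply η bη z
    have sχ : ∀ z, χ ((Equiv.ofBijective χ bχ).symm z) = z := fun z => Equiv.ofBijective_apply_symm_apply χ bχ z
    have hinv : ∀ z a r, w⁻¹ (z, a, r) = ((Equiv.ofBijective χ bχ).symm r, (Equiv.ofBijective η bη).symm a,
        (Equiv.ofBijective ψ bψ).symm z) := fun z a r => by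
      rw [Equiv.Perm.coe_inv, Equiv.symm_apply_eq, hform, sψ, sη, sχ]
    obtain ⟨u, hu⟩ := N.diag_linear hF hm (ζ := fun z => ψ ((d : F) * d * (Equiv.ofBijective ψ bψ).symm z))
      (α := fun a => η ((d : F) * (Equiv.ofBijective η bη).symm a))
      (fun x y => by
        rw [← hψ, ← mul_add]
        congr 2
        apply bψ.1
        rw [hψ, sψ, sψ, sψ])
      (fun x y => by
        rw [← hη, ← mul_add]
        congr 2
        apply bη.1
        rw [hη, sη, sη, sη])
      (fun z a r => by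
        rw [Equiv.Perm.mul_apply, Equiv.Perm.mul_apply, hinv, act_apply, hform]
        simp only [mul_zero, add_zero, zero_mul, sχ])
    exact ⟨u, hu ▸ hm, by rw [← hu, inv_mul_cancel_right]⟩
  choose u hu hwu using hk
  have hηu : ∀ (d : Fˣ) a, η ((d : F) * a) = (u d : F) * η a := fun d a => by
    have h := congrFun (congrArg (fun f : Equiv.Perm (F × F × F) => ⇑f) (hwu d)) (0, a, 0)
    simp only [Equiv.Perm.mul_apply, act_apply, hform, dia_apply, mul_zero, zero_mul, add_zero, zero_add,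
      Prod.mk.injEq] at h
    exact h.2.1
  have hψu : ∀ (d : Fˣ), ψ ((d : F) * d) = (u d : F) * u d * ψ 1 := fun d => by
    have h := congrFun (congrArg (fun f : Equiv.Perm (F × F × F) => ⇑f) (hwu d)) (0, 0, 1)
    simp only [Equiv.Perm.mul_apply, act_apply, hform, dia_apply, mul_zero, zero_mul, add_zero, zero_add,
      mul_one, Prod.mk.injEq] at h
    exact h.1
  have hdia : ∀ v : Fˣ, dia v ∈ H := fun v => by
    obtain ⟨d, hd⟩ := bη.2 ((v : F) * η 1)
    have hd0 : d ≠ 0 := fun e => by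
      rw [e, η0] at hd
      exact mul_ne_zero v.ne_zero hη1 hd.symm
    have h1 := hηu (Units.mk0 d hd0) 1
    rw [Units.val_mk0, mul_one, hd] at h1
    rw [Units.ext (mul_right_cancel₀ hη1 h1)]
    exact hu _
  refine ⟨hdia, ?_⟩
  -- semilinearity
  have hmul : ∀ d a, η (d * a) * η 1 = η d * η a := fun d a => by
    rcases eq_or_ne d 0 with rfl | hd
    · rw [zero_mul, η0, zero_mul, zero_mul]
    · have h1 := hηu (Units.mk0 d hd) a
      have h2 := hηu (Units.mk0 d hd) 1
      rw [Units.val_mk0] at h1 h2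
      rw [mul_one] at h2
      rw [h1, h2]; ring
  have hψη : ∀ x, ψ x * η 1 = ψ 1 * η x := by
    refine hF.ext_of_squares (fun x => ψ x * η 1) (fun x => ψ 1 * η x) (fun x y => ?_) (fun x y => ?_) fun d => ?_
    · show ψ (x + y) * η 1 = ψ x * η 1 + ψ y * η 1
      rw [hψ, add_mul]
    · show ψ 1 * η (x + y) = ψ 1 * η x + ψ 1 * η y
      rw [hη, mul_add]
    · show ψ ((d : F) * d) * η 1 = ψ 1 * η ((d : F) * d)
      have h1 := hηu d 1
      rw [mul_one] at h1
      rw [hψu, hηu, h1]; ring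
  have hχη : ∀ x, ψ 1 * χ x = η 1 * η x := by
    refine hF.ext_of_squares (fun x => ψ 1 * χ x) (fun x => η 1 * η x) (fun x y => ?_) (fun x y => ?_) fun b => ?_
    · show ψ 1 * χ (x + y) = ψ 1 * χ x + ψ 1 * χ y
      rw [hχ, mul_add]
    · show η 1 * η (x + y) = η 1 * η x + η 1 * η y
      rw [hη, mul_add]
    · show ψ 1 * χ ((b : F) * b) = η 1 * η ((b : F) * b)
      obtain ⟨x, hx⟩ := bχ.2 1
      have hv : (w * act (b : F) 1 * w) (x, 0, 0) = (ψ 1, η b, χ ((b : F) * b)) := by
        have e0 : w (x, 0, 0) = (0, 0, 1) := by rw [hform, hx, ψ0, η0]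
        rw [Equiv.Perm.mul_apply, Equiv.Perm.mul_apply, e0, act_apply, hform]
        simp
      have := N.cone hF (mul_mem (mul_mem hw (C.act_mem (b : F) 1)) hw) x
      rw [hv] at this
      rw [this, ← hmul (b : F) (b : F), mul_comm]
  obtain ⟨b, hb⟩ := bη.2 (-ψ 1)
  have e : (weyl F : Equiv.Perm (F × F × F)) = act 1 1 * (w * act b 1 * w⁻¹) * act 1 1 := by
    have hl : ∀ z a r, (w * act b 1 * w⁻¹) (z, a, r) = (z, a - z, r - 2 * a + z) := by
      intro z a r
      obtain ⟨z₀, rfl⟩ := bψ.2 z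
      obtain ⟨a₀, rfl⟩ := bη.2 a
      obtain ⟨r₀, rfl⟩ := bχ.2 r
      rw [← hform r₀ a₀ z₀, Equiv.Perm.mul_apply, Equiv.Perm.mul_apply, Equiv.Perm.coe_inv, Equiv.symm_apply_apply,
        act_apply, hform, Units.val_one, one_mul, one_mul, one_mul]
      have h1 : η (b * z₀) = -ψ z₀ := by
        refine mul_right_cancel₀ hη1 ?_
        rw [hmul, hb]
        linear_combination hψη z₀
      have h2 : χ (2 * a₀ * b) = -(2 * η a₀) := by
        refine mul_left_cancel₀ hψ1 ?_
        rw [hχη, show 2 * a₀ * b = b * a₀ + b * a₀ by ring, hη]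
        have h3 := hmul b a₀
        rw [hb] at h3
        linear_combination 2 * h3
      have h3 : χ (b * b * z₀) = ψ z₀ := by
        refine mul_left_cancel₀ hψ1 ?_
        rw [hχη]
        have h4 := hmul b (b * z₀)
        rw [h1, hb] at h4
        rw [mul_assoc b b z₀]
        linear_combination h4
      refine Prod.ext rfl (Prod.ext ?_ ?_)
      · show η (a₀ + b * z₀) = η a₀ - ψ z₀
        rw [hη, h1, sub_eq_add_neg]
      · show χ (r₀ + 2 * a₀ * b + b * b * z₀) = χ r₀ - 2 * η a₀ + ψ z₀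
        rw [hχ, hχ, h2, h3]; ring
    ext1 ⟨z, a, r⟩
    rw [Equiv.Perm.mul_apply, Equiv.Perm.mul_apply, act_apply, hl, act_apply, weyl_apply]
    simp only [Units.val_one]
    refine Prod.ext ?_ (Prod.ext ?_ ?_) <;> dsimp only <;> ring
  rw [e]
  exact mul_mem (mul_mem (C.act_mem _ _) (mul_mem (mul_mem hw (C.act_mem _ _)) (inv_mem hw))) (C.act_mem _ _)

end Normal

end Cfsg.Lib.PspLocal
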