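import Cfsg.Agent.PspLocal.Chart
import Cfsg.Agent.PspLocal.Iso
import Cfsg.Agent.SolvStruct.Gaschuetz

/-!
# The normalizer of the elementary abelian subgroup of order `q³` in a group with a `PSp₄(q)` centralizer
-/

set_option autoImplicit false
set_option linter.unusedSectionVars false
set_option linter.unusedSimpArgs false

namespace Cfsg.Lib.PspLocal

open Matrix Cfsg Cfsg.Lib.Fusion.PSp

/-- The centralizer as an image of the point stabilizer, the given Sylow subgroup as that of the standard one. -/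
theorem exists_chart {G : Type*} [Group G] [Finite G] {F : Type*} [Field F] [Fintype F] (p : ℕ) [Fact p.Prime]
    [CharP F p] (hp : p ≠ 2) (x : Cfsg.PSp 2 F) (hx : orderOf x = p) (Px : Sylow p (Cfsg.PSp 2 F))
    (hxP : x ∈ (Px : Subgroup (Cfsg.PSp 2 F))) (hxc : ∀ y ∈ (Px : Subgroup (Cfsg.PSp 2 F)), y * x = x * y)
    (α : G) (e : ↥(Subgroup.centralizer ({α} : Set G)) ≃* ↥(Subgroup.centralizer ({x} : Set (Cfsg.PSp 2 F))))
    (P : Sylow p G) (hP : (P : Subgroup G) ≤ Subgroup.centralizer ({α} : Set G)) :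
    ∃ ι : pointStab F →* G, Function.Injective ι ∧ ι.range = Subgroup.centralizer ({α} : Set G) ∧
      ((sylU F 2).subgroupOf (pointStab F)).map ι = (P : Subgroup G) := by
  obtain ⟨g, c, hc, hg⟩ := exists_conj_root p hp x hx Px hxP hxc
  have hce := centralizer_root p hc
  rw [← hg] at hce
  have hmem : ∀ s : pointStab F, g⁻¹ * proj F s * g ∈ Subgroup.centralizer ({x} : Set (Cfsg.PSp 2 F)) := by
    intro s
    have h1 : proj F s ∈ Subgroup.centralizer ({g * x * g⁻¹} : Set (Cfsg.PSp 2 F)) := hce ▸ ⟨s, s.2, rfl⟩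
    rw [Subgroup.mem_centralizer_singleton_iff] at h1 ⊢
    calc g⁻¹ * proj F s * g * x = g⁻¹ * (proj F s * (g * x * g⁻¹)) * g := by group
      _ = g⁻¹ * (g * x * g⁻¹ * proj F s) * g := by rw [h1]
      _ = x * (g⁻¹ * proj F s * g) := by group
  let ψ : pointStab F →* Subgroup.centralizer ({x} : Set (Cfsg.PSp 2 F)) :=
    { toFun := fun s => ⟨g⁻¹ * proj F s * g, hmem s⟩
      map_one' := Subtype.ext (by simp)
      map_mul' := fun s t => Subtype.ext (by
        show g⁻¹ * proj F (s * t : Sp F) * g = g⁻¹ * proj F s * g * (g⁻¹ * proj F t * g)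
        rw [map_mul]; group) }
  have hψi : Function.Injective ψ := fun s t h => Subtype.ext (proj_injOn p hp s.2 t.2 (by
    simpa [ψ] using congrArg Subtype.val h))
  have hψs : Function.Surjective ψ := by
    rintro ⟨y, hy⟩
    have h1 : g * y * g⁻¹ ∈ Subgroup.centralizer ({g * x * g⁻¹} : Set (Cfsg.PSp 2 F)) := by
      rw [Subgroup.mem_centralizer_singleton_iff] at hy ⊢
      calc g * y * g⁻¹ * (g * x * g⁻¹) = g * (y * x) * g⁻¹ := by group
        _ = g * x * g⁻¹ * (g * y * g⁻¹) := by rw [hy]; group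
    rw [hce] at h1
    obtain ⟨s, hs, hs'⟩ := h1
    refine ⟨⟨s, hs⟩, Subtype.ext ?_⟩
    show g⁻¹ * proj F s * g = y
    rw [hs']; group
  let f : pointStab F →* Subgroup.centralizer ({α} : Set G) := e.symm.toMonoidHom.comp ψ
  have hfs : Function.Surjective f := e.symm.surjective.comp hψs
  have hfi : Function.Injective f := e.symm.injective.comp hψi
  obtain ⟨Q, hQ⟩ := exists_sylow (F := F) (m := 2) p
  let S₁ : Sylow p (pointStab F) := Q.subtype (by rw [hQ]; exact sylU_le_pointStab)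
  obtain ⟨k, hk⟩ := MulAction.exists_smul_eq (Subgroup.centralizer ({α} : Set G)) (S₁.mapSurjective hfs) (P.subtype hP)
  let ι : pointStab F →* G :=
    (Subgroup.centralizer ({α} : Set G)).subtype.comp ((MulAut.conj k).toMonoidHom.comp f)
  refine ⟨ι, (Subgroup.subtype_injective _).comp ((MulAut.conj k).injective.comp hfi), ?_, ?_⟩
  · rw [MonoidHom.range_comp, MonoidHom.range_eq_top_of_surjective _ ((MulAut.conj k).surjective.comp hfs),
      ← MonoidHom.range_eq_map, Subgroup.range_subtype]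
  · have h1 := congrArg (fun S : Sylow p _ => ((S : Subgroup (Subgroup.centralizer ({α} : Set G)))).map
      (Subgroup.centralizer ({α} : Set G)).subtype) hk
    simp only [Sylow.coe_subgroup_smul, Sylow.coe_mapSurjective, S₁, Sylow.coe_subtype, hQ] at h1
    rw [Subgroup.map_subgroupOf_eq_of_le hP, Subgroup.pointwise_smul_def] at h1
    rw [← h1]
    show _ = Subgroup.map (Subgroup.centralizer ({α} : Set G)).subtype
      (Subgroup.map (MulAut.conj k).toMonoidHom (Subgroup.map f _))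
    rw [Subgroup.map_map, Subgroup.map_map]
    rfl

variable {G : Type*} [Group G] [Finite G] {F : Type*} [Field F] [Fintype F]

/-- The translations inside the group. -/
def trG (ι : pointStab F →* G) (v : F × F × F) : G := ι ⟨trV v, trV_mem v⟩

theorem trG_add (ι : pointStab F →* G) (u v : F × F × F) : trG ι (u + v) = trG ι u * trG ι v := by
  rw [trG, trG, trG, ← map_mul]
  exact congrArg ι (Subtype.ext (trV_add u v))

theorem trG_zero (ι : pointStab F →* G) : trG ι (0 : F × F × F) = 1 := by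
  rw [trG, show (⟨trV 0, trV_mem 0⟩ : pointStab F) = 1 from Subtype.ext trV_zero, map_one]

theorem trG_inj {ι : pointStab F →* G} (hi : Function.Injective ι) {u v : F × F × F} (h : trG ι u = trG ι v) :
    u = v := trV_inj (congrArg Subtype.val (hi h))

variable (p : ℕ) [Fact p.Prime] [CharP F p]

/-- The elementary abelian subgroup consists of the translations. -/
theorem mem_iff_trG (hp : p ≠ 2) {ι : pointStab F →* G} (hi : Function.Injective ι) {P M : Subgroup G}
    (hP : ((sylU F 2).subgroupOf (pointStab F)).map ι = P) (hMP : M ≤ P) (hMc : IsMulCommutative M)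
    (hM : Nat.card M = Fintype.card F ^ 3) (m : G) : m ∈ M ↔ ∃ v, trG ι v = m := by
  have h2 : (2 : F) ≠ 0 := Ring.two_ne_zero (by rw [ringChar.eq F p]; exact hp)
  have hMr : M ≤ ι.range := hMP.trans (hP ▸ Subgroup.map_le_range _ _)
  have hA : (M.comap ι).map (pointStab F).subtype = siegel F 2 := by
    refine eq_siegel h2 ?_ ?_ ?_
    · rintro _ ⟨s, hs, rfl⟩
      obtain ⟨t, ht, hts⟩ := hP.symm ▸ hMP hs
      rw [← hi hts]
      exact ht
    · rintro _ ⟨s, hs, rfl⟩ _ ⟨t, ht, rfl⟩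
      rw [← map_mul, ← map_mul]
      refine congrArg _ (hi ?_)
      rw [map_mul, map_mul]
      exact congrArg Subtype.val (hMc.is_comm.comm (⟨_, hs⟩ : M) ⟨_, ht⟩)
    · rw [Subgroup.card_map_of_injective (Subgroup.subtype_injective _), ← Subgroup.card_map_of_injective (f := ι) hi,
        Subgroup.map_comap_eq_self hMr, hM]
  constructor
  · intro hm
    obtain ⟨s, rfl⟩ := hMr hm
    obtain ⟨v, hv⟩ := exists_trV (hA ▸ Subgroup.mem_map_of_mem (pointStab F).subtype (Subgroup.mem_comap.mpr hm))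
    exact ⟨v, congrArg ι (Subtype.ext hv)⟩
  · rintro ⟨v, rfl⟩
    obtain ⟨s, hs, hv⟩ := hA.symm ▸ trV_mem_siegel v
    rw [trG, show (⟨trV v, trV_mem v⟩ : pointStab F) = s from Subtype.ext hv.symm]
    exact hs

/-- **The local lemma.** -/
theorem exists_complement (hp : p ≠ 2) (hcard4 : Fintype.card F % 4 = 3)
    (x : Cfsg.PSp 2 F) (hx : orderOf x = p) (Px : Sylow p (Cfsg.PSp 2 F))
    (hxP : x ∈ (Px : Subgroup (Cfsg.PSp 2 F))) (hxc : ∀ y ∈ (Px : Subgroup (Cfsg.PSp 2 F)), y * x = x * y)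
    (α : G) (e : ↥(Subgroup.centralizer ({α} : Set G)) ≃* ↥(Subgroup.centralizer ({x} : Set (Cfsg.PSp 2 F))))
    (hb : ∀ z ∈ Subgroup.centralizer ({α} : Set G), z ≠ 1 →
      (∀ c ∈ Subgroup.centralizer ({α} : Set G), c * z = z * c) →
      Subgroup.centralizer ({z} : Set G) = Subgroup.centralizer ({α} : Set G))
    (hc : ∃ (u v : G) (Pu Pv : Sylow p G), orderOf u = p ∧ orderOf v = p ∧
      u ∈ (Pu : Subgroup G) ∧ (∀ y ∈ (Pu : Subgroup G), y * u = u * y) ∧
      v ∈ (Pv : Subgroup G) ∧ (∀ y ∈ (Pv : Subgroup G), y * v = v * y) ∧ ∀ g : G, g * u * g⁻¹ ≠ v)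
    (P : Sylow p G) (hP : (P : Subgroup G) ≤ Subgroup.centralizer ({α} : Set G))
    (M : Subgroup G) (hMP : M ≤ P) (hMc : IsMulCommutative ↥M) (hM : Nat.card ↥M = Fintype.card F ^ 3)
    (hnc : ∃ Q R : Sylow p ↥(Subgroup.normalizer (M : Set G)), Q ≠ R) :
    ∃ J : Subgroup G, J ≤ Subgroup.normalizer (M : Set G) ∧ M ⊔ J = Subgroup.normalizer (M : Set G) ∧ M ⊓ J = ⊥ ∧
      Nonempty (↥J ≃* (Matrix.ProjGenLinGroup (Fin 2) F ×
        Multiplicative (ZMod ((Fintype.card F - 1) / 2)))) := by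
  have hFH : FieldHyp F p := ⟨Fact.out, inferInstance, hcard4⟩
  have h2 := hFH.two_ne_zero
  obtain ⟨ι, hi, hr, hιP⟩ := exists_chart p hp x hx Px hxP hxc α e P hP
  have hmem := mem_iff_trG p hp hi hιP hMP hMc hM
  set N := Subgroup.normalizer (M : Set G) with hN
  -- the long root translations and their centralizer
  have hCz : ∀ z : F, z ≠ 0 → Subgroup.centralizer ({trG ι (z, 0, 0)} : Set G) = ι.range := by
    intro z hz
    rw [hr]
    refine hb _ (hr ▸ ⟨_, rfl⟩) (fun h1 => hz ?_) fun c hc => ?_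
    · rw [← trG_zero ι] at h1
      exact congrArg Prod.fst (trG_inj hi h1)
    · obtain ⟨s, rfl⟩ := hr.symm ▸ hc
      rw [trG, ← map_mul, ← map_mul]
      exact congrArg ι (Subtype.ext (root_comm s.2 z))
  have hPcent : ∀ y ∈ (P : Subgroup G), (∀ w ∈ (P : Subgroup G), w * y = y * w) → ∃ z : F, y = trG ι (z, 0, 0) := by
    intro y hy hcy
    obtain ⟨s, hs, rfl⟩ := hιP.symm ▸ hy
    obtain ⟨z, hz⟩ := central_in_sylU p hp hs fun r hr' => by
      have h1 := hcy (ι ⟨r, sylU_le_pointStab hr'⟩) (hιP ▸ Subgroup.mem_map_of_mem ι (Subgroup.mem_subgroupOf.mpr hr'))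
      rw [← map_mul, ← map_mul] at h1
      exact (congrArg Subtype.val (hi h1)).symm
    exact ⟨z, congrArg ι (Subtype.ext hz)⟩
  -- the normalizer acts on the translations
  let eM : (F × F × F) ≃ M := Equiv.ofBijective (fun v => ⟨trG ι v, (hmem _).mpr ⟨v, rfl⟩⟩)
    ⟨fun u v h => trG_inj hi (congrArg Subtype.val h),
      fun m => ((hmem m.1).mp m.2).imp fun v h => Subtype.ext h⟩
  let f : N →* Equiv.Perm (F × F × F) :=
    (eM.symm.permCongrHom.toMonoidHom.comp (MulAut.toPerm M)).comp M.normalizerMonoidHom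
  have hf : ∀ (n : N) (v : F × F × F), trG ι (f n v) = n.1 * trG ι v * n.1⁻¹ := fun n v => by
    have h1 : eM (f n v) = M.normalizerMonoidHom n (eM v) := eM.apply_symm_apply _
    exact congrArg Subtype.val h1
  have hfeq : ∀ (n : N) (π : Equiv.Perm (F × F × F)),
      (∀ v, n.1 * trG ι v * n.1⁻¹ = trG ι (π v)) → f n = π :=
    fun n π h => Equiv.ext fun v => trG_inj hi ((hf n v).trans (h v))
  -- inside the centralizer
  have hin : ∀ (n : N) (s : pointStab F), n.1 = ι s → s.1.1.toBlocks₂₁ = 0 ∧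
      ∃ (b : F) (d : Fˣ), s.1.1.toBlocks₁₁ = !![1, b; 0, (d : F)] ∧ f n = act b d := by
    intro n s hs
    have hconj : ∀ v, s.1 * trV v * s.1⁻¹ = trV (f n v) := fun v => by
      have h1 := hf n v
      rw [hs, trG, trG, ← map_inv, ← map_mul, ← map_mul] at h1
      exact (congrArg Subtype.val (hi h1)).symm
    obtain ⟨h1, b, d, h3, h4⟩ := shape_of_normal s.2 fun v => ⟨_, hconj v⟩
    exact ⟨h1, b, d, h3, Equiv.ext fun v => trV_inj ((hconj v).symm.trans (h4 v))⟩
  have hfix : ∀ (n : N) (z : F), z ≠ 0 → f n (z, 0, 0) = (z, 0, 0) → ∃ s, n.1 = ι s := by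
    intro n z hz h
    have h1 := hf n (z, 0, 0)
    rw [h, eq_mul_inv_iff_mul_eq] at h1
    obtain ⟨s, hs⟩ := (hCz z hz).le (Subgroup.mem_centralizer_singleton_iff.mpr h1.symm)
    exact ⟨s, hs.symm⟩
  have hnorm : ∀ g : G, (∀ v, ∃ w, g * trG ι v * g⁻¹ = trG ι w) → g ∈ N := fun g h =>
    Cfsg.Lib.Fusion.mem_normalizer_of_maps_finite fun m hm => by
      obtain ⟨v, rfl⟩ := (hmem m).mp hm
      obtain ⟨w, hw⟩ := h v
      rw [hw]
      exact (hmem _).mpr ⟨w, rfl⟩
  have hlevN : ∀ (b : F) (d : Fˣ), ι ⟨lev b d, lev_mem b d⟩ ∈ N := fun b d => hnorm _ fun v => ⟨act b d v, by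
    rw [trG, trG, ← map_inv, ← map_mul, ← map_mul]
    exact congrArg ι (Subtype.ext (lev_conj b d v))⟩
  have hflev : ∀ (b : F) (d : Fˣ), f ⟨_, hlevN b d⟩ = act b d := fun b d => hfeq _ _ fun v => by
    rw [trG, trG, ← map_inv, ← map_mul, ← map_mul]
    exact congrArg ι (Subtype.ext (lev_conj b d v))
  have hPiff : ∀ n : N, n.1 ∈ (P : Subgroup G) ↔ ∃ b : F, f n = act b 1 := by
    intro n
    constructor
    · intro hn
      obtain ⟨s, hs, hsn⟩ := hιP.symm ▸ hn
      obtain ⟨-, b, d, hA, hfn⟩ := hin n s hsn.symm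
      have h11 := (mem_sylU.mp hs).2 1 1 le_rfl
      change s.1.1.toBlocks₁₁ 1 1 = _ at h11
      rw [hA] at h11
      exact ⟨b, by rw [hfn, show d = 1 from Units.ext (by simpa using h11)]⟩
    · rintro ⟨b, hb'⟩
      obtain ⟨s, hs⟩ := hfix n 1 one_ne_zero (by rw [hb', act_fix_left])
      obtain ⟨h1, b', d', hA, hfn⟩ := hin n s hs
      obtain ⟨rfl, rfl⟩ := act_inj h2 (hfn.symm.trans hb')
      rw [hs, ← hιP]
      refine Subgroup.mem_map_of_mem ι (Subgroup.mem_subgroupOf.mpr (mem_sylU.mpr ⟨h1, ?_⟩))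
      rw [hA]
      intro i j hji
      revert hji
      fin_cases i <;> fin_cases j <;> simp
  have hPN : (P : Subgroup G) ≤ N := fun g hg => hnorm g fun v => by
    obtain ⟨s, hs, rfl⟩ := hιP.symm ▸ hg
    obtain ⟨w, hw⟩ := exists_trV (sylU_conj_siegel hs (trV_mem_siegel v))
    refine ⟨w, ?_⟩
    rw [trG, trG, ← map_inv, ← map_mul, ← map_mul]
    exact congrArg ι (Subtype.ext hw.symm)
  let PN : Sylow p N := P.subtype hPN
  have hPNmem : ∀ n : N, n ∈ (PN : Subgroup N) ↔ n.1 ∈ (P : Subgroup G) := fun n => Subgroup.mem_subgroupOf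
  have hker : f.ker = M.subgroupOf N := by
    ext n
    rw [MonoidHom.mem_ker, Subgroup.mem_subgroupOf]
    constructor
    · intro hn
      obtain ⟨s, hs⟩ := hfix n 1 one_ne_zero (by rw [hn]; rfl)
      obtain ⟨v, hv⟩ := exists_trV (mem_siegel_of_acts s.2 (fun v => by
        have h1 := hf n v
        rw [hn, Equiv.Perm.one_apply, hs, trG, ← map_inv, ← map_mul, ← map_mul] at h1
        exact (congrArg Subtype.val (hi h1)).symm) h2)
      exact (hmem _).mpr ⟨v, by rw [hs]; exact congrArg ι (Subtype.ext hv)⟩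
    · intro hn
      obtain ⟨v, hv⟩ := (hmem _).mp hn
      refine hfeq n 1 fun u => ?_
      rw [Equiv.Perm.one_apply, ← hv, ← trG_add, mul_inv_eq_iff_eq_mul, ← trG_add, add_comm]
  -- the conic hypotheses
  have hconic : Conic p f.range := by
    refine ⟨?_, fun b d => ⟨_, hflev b d⟩, ?_, ?_, ?_, ?_⟩
    · rintro _ ⟨n, rfl⟩ u v
      refine trG_inj hi ?_
      rw [hf, trG_add, trG_add, hf, hf]
      group
    · rintro _ ⟨n, rfl⟩ z hz h
      obtain ⟨s, hs⟩ := hfix n z hz h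
      obtain ⟨-, b, d, -, hfn⟩ := hin n s hs
      exact ⟨b, d, hfn⟩
    · obtain ⟨u, v, Pu, Pv, hu, hv, huP, huc, hvP, hvc, huv⟩ := hc
      have hconj : ∀ (y : G) (Q : Sylow p G), orderOf y = p → y ∈ (Q : Subgroup G) →
          (∀ w ∈ (Q : Subgroup G), w * y = y * w) → ∃ (g : G) (z : F), z ≠ 0 ∧ g * y * g⁻¹ = trG ι (z, 0, 0) := by
        intro y Q hy hyQ hyc
        obtain ⟨g, hg⟩ := MulAction.exists_smul_eq G Q P
        obtain ⟨z, hz⟩ := hPcent (g * y * g⁻¹) (by rw [← hg, Sylow.coe_subgroup_smul]; exact ⟨y, hyQ, rfl⟩) (by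
          intro w hw
          rw [← hg, Sylow.coe_subgroup_smul] at hw
          obtain ⟨w, hw, rfl⟩ := hw
          show g * w * g⁻¹ * _ = _ * (g * w * g⁻¹)
          rw [← mul_assoc, show g * w * g⁻¹ * (g * y) * g⁻¹ = g * (w * y) * g⁻¹ by group, hyc w hw]
          group)
        refine ⟨g, z, fun h0 => ?_, hz⟩
        rw [h0, show ((0, 0, 0) : F × F × F) = 0 from rfl, trG_zero, mul_inv_eq_one, mul_eq_left] at hz
        rw [hz, orderOf_one] at hy
        exact (Fact.out : p.Prime).ne_one hy.symm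
      obtain ⟨gu, zu, hzu, heu⟩ := hconj u Pu hu huP huc
      obtain ⟨gv, zv, hzv, hev⟩ := hconj v Pv hv hvP hvc
      by_contra hno
      push Not at hno
      obtain ⟨_, ⟨n₁, rfl⟩, h1⟩ := hno zu hzu
      obtain ⟨_, ⟨n₂, rfl⟩, h2'⟩ := hno zv hzv
      have e1 := hf n₁ (1, 0, 0)
      have e2 := hf n₂ (1, 0, 0)
      rw [h1, ← heu] at e1
      rw [h2', ← hev] at e2
      apply huv (gv⁻¹ * (n₂.1 * n₁.1⁻¹) * gu)
      calc gv⁻¹ * (n₂.1 * n₁.1⁻¹) * gu * u * (gv⁻¹ * (n₂.1 * n₁.1⁻¹) * gu)⁻¹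
          = gv⁻¹ * n₂.1 * n₁.1⁻¹ * (gu * u * gu⁻¹) * n₁.1 * n₂.1⁻¹ * gv := by group
        _ = gv⁻¹ * (n₂.1 * trG ι (1, 0, 0) * n₂.1⁻¹) * gv := by rw [e1]; group
        _ = v := by rw [← e2]; group
    · by_contra hno
      push Not at hno
      have hline : ∀ (n : N) (z : F), ∃ z', f n (z, 0, 0) = (z', 0, 0) :=
        fun n z => ⟨(f n (z, 0, 0)).1, Prod.ext rfl (hno _ ⟨n, rfl⟩ z)⟩
      haveI : (PN : Subgroup N).Normal := by
        refine ⟨fun m hm n => ?_⟩
        rw [hPNmem, hPiff] at hm ⊢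
        obtain ⟨b, hb'⟩ := hm
        obtain ⟨z', hz'⟩ := hline n⁻¹ 1
        have hfx : f (n * m * n⁻¹) (1, 0, 0) = (1, 0, 0) := by
          rw [map_mul, map_mul, Equiv.Perm.mul_apply, Equiv.Perm.mul_apply, hz', hb', act_fix_left, ← hz',
            ← Equiv.Perm.mul_apply, ← map_mul, mul_inv_cancel, map_one, Equiv.Perm.one_apply]
        obtain ⟨s, hs⟩ := hfix (n * m * n⁻¹) 1 one_ne_zero hfx
        obtain ⟨-, b₁, d₁, -, hfn⟩ := hin _ s hs
        obtain ⟨b₂, hb₂⟩ := act_pow b₁ d₁ p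
        have hp1 : act b₂ (d₁ ^ p) = act 0 1 := by
          rw [← hb₂, ← hfn, map_mul, map_mul, map_inv, conj_pow, hb', act_unipotent_pow, CharP.cast_eq_zero,
            zero_mul, act_one, mul_one, mul_inv_cancel]
        exact ⟨b₁, by rw [hfn, hFH.eq_one_of_pow d₁ (act_inj h2 hp1).2]⟩
      haveI := Sylow.unique_of_normal PN inferInstance
      obtain ⟨Q, R, hQR⟩ := hnc
      exact hQR (Subsingleton.elim Q R)
    · rintro _ ⟨n, rfl⟩ hnp
      rw [← map_pow, ← MonoidHom.mem_ker, hker, Subgroup.mem_subgroupOf] at hnp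
      obtain ⟨k, hk⟩ := P.2 ⟨_, hMP hnp⟩
      have hpg : IsPGroup p (Subgroup.zpowers n) := by
        refine IsPGroup.of_card (n := (Nat.card (Subgroup.zpowers n)).factorization p) ?_
        have hd : orderOf n ∣ p ^ (1 + k) := orderOf_dvd_of_pow_eq_one (Subtype.ext (by
          rw [pow_add, pow_one, pow_mul, SubmonoidClass.coe_pow]
          exact congrArg Subtype.val hk))
        obtain ⟨j, -, hj⟩ := (Nat.dvd_prime_pow Fact.out).mp hd
        rw [Nat.card_zpowers, hj, Nat.factorization_pow, (Fact.out : p.Prime).factorization]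
        simp
      obtain ⟨Q, hQ⟩ := hpg.exists_le_sylow
      obtain ⟨g, hg⟩ := MulAction.exists_smul_eq N Q PN
      have hgn : g * n * g⁻¹ ∈ (PN : Subgroup N) := by
        rw [← hg, Sylow.coe_subgroup_smul]
        exact ⟨n, hQ (Subgroup.mem_zpowers n), rfl⟩
      rw [hPNmem, hPiff] at hgn
      obtain ⟨b, hb'⟩ := hgn
      refine ⟨f g⁻¹, ⟨g⁻¹, rfl⟩, b, ?_⟩
      rw [← hb', map_mul, map_mul, map_inv]
      group
  obtain ⟨iso⟩ := hconic.iso hFH
  -- the complement
  haveI : IsMulCommutative (M.subgroupOf N) := ⟨⟨fun a b => by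
    have h := congrArg Subtype.val (hMc.is_comm.comm (⟨_, Subgroup.mem_subgroupOf.mp a.2⟩ : M)
      ⟨_, Subgroup.mem_subgroupOf.mp b.2⟩)
    exact Subtype.ext (Subtype.ext h)⟩⟩
  haveI : (M.subgroupOf N).Normal := hker ▸ inferInstance
  let lh : Multiplicative F →* N := MonoidHom.mk' (fun b => ⟨_, hlevN b.toAdd 1⟩) fun a b => Subtype.ext (by
    show ι _ = ι _ * ι _
    rw [← map_mul]
    exact congrArg ι (Subtype.ext (lev_mul _ _)))
  have hlh : ∀ b : Multiplicative F, f (lh b) = act b.toAdd 1 := fun b => hflev _ 1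
  obtain ⟨J', hJ'⟩ := Cfsg.Lib.SolvStruct.exists_complement_averaging (G := N) (K := M.subgroupOf N)
    (U := (PN : Subgroup N)) (fun n hn => (hPNmem n).mpr (hMP (Subgroup.mem_subgroupOf.mp hn))) (by
      have hcop := (Nat.Prime.coprime_iff_not_dvd (Fact.out : p.Prime)).mpr PN.not_dvd_index
      obtain ⟨k, hk⟩ := IsPGroup.iff_card.mp (PN.2.to_le
        (show M.subgroupOf N ≤ (PN : Subgroup N) from fun n hn => (hPNmem n).mpr (hMP (Subgroup.mem_subgroupOf.mp hn))))
      rw [hk]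
      exact hcop.pow_left k)
    lh.range (by
      rintro _ ⟨b, rfl⟩
      exact (hPNmem _).mpr ((hPiff _).mpr ⟨_, hlh b⟩)) (by
      rw [eq_bot_iff]
      rintro _ ⟨⟨b, rfl⟩, hb'⟩
      replace hb' : f (lh b) = 1 := MonoidHom.mem_ker.mp (hker.symm ▸ hb')
      rw [hlh, ← act_one] at hb'
      rw [Subgroup.mem_bot, show b = 1 from congrArg Multiplicative.ofAdd (act_inj h2 hb').1, map_one]) (by
      refine le_antisymm (sup_le (fun n hn => (hPNmem n).mpr (hMP (Subgroup.mem_subgroupOf.mp hn))) ?_) fun n hn => ?_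
      · rintro _ ⟨b, rfl⟩
        exact (hPNmem _).mpr ((hPiff _).mpr ⟨_, hlh b⟩)
      · obtain ⟨b, hb'⟩ := (hPiff n).mp ((hPNmem n).mp hn)
        have h1 : n * (lh (Multiplicative.ofAdd b))⁻¹ ∈ M.subgroupOf N := by
          rw [← hker, MonoidHom.mem_ker, map_mul, map_inv, hlh, hb']
          exact mul_inv_cancel _
        have h3 := Subgroup.mul_mem_sup h1 (MonoidHom.mem_range.mpr ⟨Multiplicative.ofAdd b, rfl⟩ : lh (Multiplicative.ofAdd b) ∈ lh.range)
        rwa [inv_mul_cancel_right] at h3)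
  have hJi : Function.Injective (f.rangeRestrict.comp J'.subtype) := by
    rw [injective_iff_map_eq_one]
    intro j hj
    have h1 : (j : N) ∈ M.subgroupOf N := hker ▸ congrArg Subtype.val hj
    exact Subtype.ext ((Subgroup.disjoint_def.mp hJ'.disjoint) h1 j.2)
  have hJs : Function.Surjective (f.rangeRestrict.comp J'.subtype) := by
    rintro ⟨_, n, rfl⟩
    obtain ⟨⟨k, j⟩, hkj⟩ := hJ'.2 n
    refine ⟨j, Subtype.ext ?_⟩
    show f j = f n
    have hk : f k = 1 := MonoidHom.mem_ker.mp (show (k : N) ∈ f.ker from hker.symm.le k.2)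
    rw [← hkj, map_mul, hk, one_mul]
  refine ⟨J'.map N.subtype, Subgroup.map_subtype_le _, ?_, ?_,
    ⟨((Subgroup.equivMapOfInjective J' N.subtype (Subgroup.subtype_injective _)).symm.trans
      (MulEquiv.ofBijective _ ⟨hJi, hJs⟩)).trans iso⟩⟩
  · have hMN : M ≤ N := Subgroup.le_normalizer
    refine (congrArg (· ⊔ J'.map N.subtype) (Subgroup.map_subgroupOf_eq_of_le hMN).symm).trans ?_
    rw [← Subgroup.map_sup, hJ'.sup_eq_top, ← MonoidHom.range_eq_map, Subgroup.range_subtype]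
  · rw [eq_bot_iff]
    rintro _ ⟨hgM, n, hn, rfl⟩
    rw [Subgroup.mem_bot, show n = 1 from Subgroup.disjoint_def.mp hJ'.disjoint (Subgroup.mem_subgroupOf.mpr hgM) hn]
    rfl

end Cfsg.Lib.PspLocal
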