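import Cfsg.Agent.PspLocal.Count

/-!
# Normalised coordinates: the second point of the plane is the line `(0, 0, r)`
-/

set_option autoImplicit false
set_option linter.unusedSectionVars false

namespace Cfsg.Lib.PspLocal

variable {F : Type*} [Field F] [Fintype F] {p : ℕ} {H : Subgroup (Equiv.Perm (F × F × F))}

/-- A conic group whose two points in the plane fixed by `tau` are the coordinate lines. -/
structure Normal (p : ℕ) (H : Subgroup (Equiv.Perm (F × F × F))) : Prop where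
  conic : Conic p H
  plane : ∀ h ∈ H, ∀ x, (h (x, 0, 0)).2.1 = 0 → (h (x, 0, 0)).1 = 0 ∨ (h (x, 0, 0)).2.2 = 0
  companion : ∃ w ∈ H, tau F * w = w * tau F ∧ ∀ r, ∃ x, w (x, 0, 0) = (0, 0, r)

/-- The shear `z ↦ z - c r`. -/
def shear (c : F) : Equiv.Perm (F × F × F) where
  toFun v := (v.1 - c * v.2.2, v.2.1, v.2.2)
  invFun v := (v.1 + c * v.2.2, v.2.1, v.2.2)
  left_inv v := by simp
  right_inv v := by simp

theorem shear_apply (c z a r : F) : shear c (z, a, r) = (z - c * r, a, r) := rfl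

theorem shear_symm_apply (c z a r : F) : (shear c).symm (z, a, r) = (z + c * r, a, r) := rfl

theorem shear_comm {c : F} (hc : ∀ d : Fˣ, (d : F) * d * c = c) (b : F) (d : Fˣ) :
    shear c * act b d = act b d * shear c := by
  ext1 ⟨z, a, r⟩
  simp only [Equiv.Perm.mul_apply, act_apply, shear_apply]
  refine Prod.ext ?_ rfl
  show _ - c * _ = _
  linear_combination -r * hc d

variable (C : Conic p H) (hF : FieldHyp F p)
include C hF

theorem Conic.conj_shear {c : F} (hc : ∀ d : Fˣ, (d : F) * d * c = c) :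
    Conic p (H.map (MulAut.conj (shear c)).toMonoidHom) := by
  set σ := shear c with hσdef
  have hmem : ∀ {h}, h ∈ H.map (MulAut.conj σ).toMonoidHom ↔ ∃ k ∈ H, h = σ * k * σ⁻¹ := fun {h} => by
    rw [Subgroup.mem_map]
    exact ⟨fun ⟨k, hk, e⟩ => ⟨k, hk, e.symm⟩, fun ⟨k, hk, e⟩ => ⟨k, hk, e.symm⟩⟩
  have hact : ∀ b d, σ * act b d * σ⁻¹ = act b d := fun b d => by
    rw [shear_comm hc, mul_inv_cancel_right]
  have hl : ∀ z, σ⁻¹ (z, 0, 0) = (z, 0, 0) := fun z => by
    rw [Equiv.Perm.coe_inv, hσdef, shear_symm_apply, mul_zero, add_zero]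
  have hl' : ∀ z, σ (z, 0, 0) = (z, 0, 0) := fun z => by rw [hσdef, shear_apply, mul_zero, sub_zero]
  refine ⟨?_, fun b d => hmem.mpr ⟨_, C.act_mem b d, (hact b d).symm⟩, ?_, ?_, ?_, ?_⟩
  · intro h hh u v
    obtain ⟨k, hk, rfl⟩ := hmem.mp hh
    simp only [Equiv.Perm.mul_apply, Equiv.Perm.coe_inv]
    obtain ⟨z, a, r⟩ := u
    obtain ⟨z', a', r'⟩ := v
    simp only [hσdef, Prod.mk_add_mk, shear_symm_apply]
    rw [show ((z + z' + c * (r + r'), a + a', r + r') : F × F × F) = (z + c * r, a, r) + (z' + c * r', a', r') by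
      ext <;> simp; ring, C.additive k hk]
    generalize k (z + c * r, a, r) = s
    generalize k (z' + c * r', a', r') = t
    obtain ⟨s1, s2, s3⟩ := s
    obtain ⟨t1, t2, t3⟩ := t
    simp only [Prod.mk_add_mk, shear_apply, Prod.mk.injEq]
    exact ⟨by ring, trivial⟩
  · intro h hh z hz e
    obtain ⟨k, hk, rfl⟩ := hmem.mp hh
    rw [Equiv.Perm.mul_apply, Equiv.Perm.mul_apply, hl] at e
    obtain ⟨b, d, rfl⟩ := C.cent k hk z hz (σ.injective (e.trans (hl' z).symm))
    exact ⟨b, d, hact b d⟩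
  · obtain ⟨z, hz, hnf⟩ := C.fusion
    refine ⟨z, hz, fun h hh e => ?_⟩
    obtain ⟨k, hk, rfl⟩ := hmem.mp hh
    rw [Equiv.Perm.mul_apply, Equiv.Perm.mul_apply, hl] at e
    exact hnf k hk (σ.injective (e.trans (hl' z).symm))
  · obtain ⟨h, hh, z, hz⟩ := C.move
    refine ⟨_, hmem.mpr ⟨h, hh, rfl⟩, z, fun e => hz ?_⟩
    rw [Equiv.Perm.mul_apply, Equiv.Perm.mul_apply, hl] at e
    generalize h (z, 0, 0) = v at e
    obtain ⟨v1, v2, v3⟩ := v
    exact e
  · intro g hg hgp
    obtain ⟨k, hk, rfl⟩ := hmem.mp hg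
    rw [conj_pow, mul_inv_eq_one] at hgp
    obtain ⟨h, hh, b, hb⟩ := C.syl k hk (mul_left_cancel (hgp.trans (mul_one σ).symm))
    refine ⟨_, hmem.mpr ⟨h, hh, rfl⟩, b, ?_⟩
    rw [hb]
    nth_rewrite 2 [← hact b 1]
    group

theorem Conic.exists_normal :
    ∃ σ : Equiv.Perm (F × F × F), Normal p (H.map (MulAut.conj σ).toMonoidHom) := by
  obtain ⟨c, hc, hcd⟩ := C.phi_unique hF
  have C' := C.conj_shear hF hcd
  refine ⟨shear c, C', ?_, ?_⟩
  · intro h hh x ha
    obtain ⟨k, hk, rfl⟩ := Subgroup.mem_map.mp hh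
    simp only [MulEquiv.coe_toMonoidHom, MulAut.conj_apply, Equiv.Perm.mul_apply, Equiv.Perm.coe_inv,
      shear_symm_apply, mul_zero, add_zero] at ha ⊢
    generalize hv : k (x, 0, 0) = v at ha
    obtain ⟨z, a, r⟩ := v
    simp only [shear_apply] at ha ⊢
    subst ha
    rcases eq_or_ne r 0 with hr | hr
    · exact Or.inr hr
    refine Or.inl ?_
    have hW := C.plane_of_mem hF hk (x := x) (by rw [hv]) (by rw [hv]; exact hr)
    have hne : (k (x, 0, 0)).2 ≠ 0 := fun e => hr (by rw [hv] at e; exact congrArg Prod.snd e)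
    obtain ⟨φ, hφ, hG⟩ := C.exists_graph hF hk hW ⟨x, hne⟩
    have hlin : φ r = c * r := by
      refine hF.ext_of_squares φ (fun r => c * r) hφ (fun _ _ => mul_add _ _ _) (fun d => ?_) r
      obtain ⟨y, hy⟩ := C.graph_torus hF hG d⁻¹ 1
      have hmem : φ ((d : F) * d) ∈ Phi H := ⟨_, mul_mem (C.act_mem _ _) hk, y, by
        simpa [Units.val_inv_eq_inv_val] using hy⟩
      rw [hc, Set.mem_singleton_iff] at hmem
      rw [hmem, mul_comm c, hcd d]
    obtain ⟨x', hx'⟩ := hG r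
    have : x' = x := C.inj_third hF hk hne hW (by rw [hx', hv])
    rw [this, hv] at hx'
    have e : z = φ r := congrArg Prod.fst hx'
    rw [e, hlin, sub_self]
  · obtain ⟨g, hg, hW, φ, hφ, hG, hφ1, hg1⟩ := C.rep hF (c := c) (hc ▸ rfl)
    obtain ⟨s, hs⟩ := C.exists_centralizing hF hg hW
    refine ⟨_, Subgroup.mem_map_of_mem _ (mul_mem hg (C.act_mem s 1)), ?_, fun r => ?_⟩
    · have hst : shear c * tau F = tau F * shear c := shear_comm hcd 0 (-1)
      simp only [MulEquiv.coe_toMonoidHom, MulAut.conj_apply]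
      have h1 : Commute (tau F) (shear c) := hst.symm
      exact ((h1.mul_right hs).mul_right h1.inv_right).eq
    · obtain ⟨x, hx⟩ := hG r
      have hlin : φ r = c * r := by
        refine hF.ext_of_squares φ (fun r => c * r) hφ (fun _ _ => mul_add _ _ _) (fun d => ?_) r
        obtain ⟨y, hy⟩ := C.graph_torus hF hG d⁻¹ 1
        have hmem : φ ((d : F) * d) ∈ Phi H := ⟨_, mul_mem (C.act_mem _ _) hg, y, by
          simpa [Units.val_inv_eq_inv_val] using hy⟩
        rw [hc, Set.mem_singleton_iff] at hmem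
        rw [hmem, mul_comm c, hcd d]
      refine ⟨x, ?_⟩
      simp only [MulEquiv.coe_toMonoidHom, MulAut.conj_apply, Equiv.Perm.mul_apply, Equiv.Perm.coe_inv,
        shear_symm_apply, mul_zero, add_zero, act_fix_left, hx, shear_apply, hlin, sub_self]

end Cfsg.Lib.PspLocal
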