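import Cfsg.Agent.PspLocal.Basic

/-!
# The points: images of the first line

Every point other than the first line is a shift, by a unique unipotent element, of a point in the plane fixed by
`act 0 (-1)`, where it is the graph of an additive map.
-/

set_option autoImplicit false
set_option linter.unusedSectionVars false

namespace Cfsg.Lib.PspLocal

variable {F : Type*} [Field F] [Fintype F] {p : ℕ} {H : Subgroup (Equiv.Perm (F × F × F))}

/-- The involution of the torus. -/
def tau (F : Type*) [Field F] : Equiv.Perm (F × F × F) := act 0 (-1)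

theorem tau_apply (z a r : F) : tau F (z, a, r) = (z, -a, r) := by
  simp [tau, act_apply]

/-- The image of the first line under `h` is the graph of `φ` in the plane fixed by `tau`. -/
def Graph (h : Equiv.Perm (F × F × F)) (φ : F → F) : Prop := ∀ r, ∃ x, h (x, 0, 0) = (φ r, 0, r)

namespace Conic

variable (C : Conic p H) (hF : FieldHyp F p)
include C hF

omit C hF in
theorem prod_ext_left (x y : F) : ((x, 0, 0) : F × F × F) + (y, 0, 0) = (x + y, 0, 0) := by
  ext <;> simp

theorem third_ne_of_ne {h : Equiv.Perm (F × F × F)} (hh : h ∈ H) {z : F} (hz : (h (z, 0, 0)).2 ≠ 0) :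
    ∃ x, (h (x, 0, 0)).2.2 ≠ 0 := by
  by_contra hno
  push Not at hno
  have key : ∀ x, x ≠ 0 → (h (x, 0, 0)).2 ≠ 0 := fun x hx e => hz (C.preserve_line hF hh hx e z)
  have hinj : Function.Injective fun x => (h (x, 0, 0)).2.1 := by
    intro x y e
    by_contra hne
    refine key (x - y) (sub_ne_zero.mpr hne) (Prod.ext ?_ (hno _))
    have e' : ((x - y, 0, 0) : F × F × F) = (x, 0, 0) - (y, 0, 0) := by ext <;> simp
    rw [e', C.map_sub hF hh]
    simpa using sub_eq_zero.mpr e
  obtain ⟨x₁, hx₁⟩ := (Finite.injective_iff_surjective.mp hinj) 1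
  -- after a shift the point contains `(0, 1, 0)`
  set s := -(h (x₁, 0, 0)).1 / 2
  have hsh : act s 1 * h ∈ H := mul_mem (C.act_mem _ _) hh
  set g := act s 1 * h with hg
  have hr : ∀ x, (g (x, 0, 0)).2.2 = 0 ∧ (g (x, 0, 0)).2.1 = (h (x, 0, 0)).2.1 := by
    intro x
    have := hno x
    rw [hg, Equiv.Perm.mul_apply]
    generalize h (x, 0, 0) = v at this
    obtain ⟨z, a, r⟩ := v
    simp only [act_apply] at this ⊢
    subst this
    simp
  have hg1 : g (x₁, 0, 0) = (0, 1, 0) := by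
    rw [hg, Equiv.Perm.mul_apply]
    have h1 := hno x₁
    simp only at hx₁
    have hs : s = -(h (x₁, 0, 0)).1 / 2 := rfl
    generalize h (x₁, 0, 0) = v at h1 hx₁ hs ⊢
    obtain ⟨z, a, r⟩ := v
    simp only at h1 hx₁ hs
    subst h1 hx₁
    simp only [act_apply, Prod.mk.injEq, Units.val_one, hs]
    refine ⟨?_, by ring, by ring⟩
    have := hF.two_ne_zero
    field_simp
    ring
  -- it is the second line
  have hA : ∀ x, g (x, 0, 0) = (0, (h (x, 0, 0)).2.1, 0) := by
    intro x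
    have ht : tau F ∈ H := C.act_mem _ _
    obtain ⟨x', hx'⟩ := C.line_of_common hF (mul_mem ht hsh) hsh (z := x₁) (z' := -x₁)
      (fun e => by
        have := hg1
        rw [e, show ((0, 0, 0) : F × F × F) = 0 from rfl, C.map_zero hF hsh] at this
        exact one_ne_zero (congrArg (fun v : F × F × F => v.2.1) this).symm)
      (by
        rw [Equiv.Perm.mul_apply, hg1, tau_apply,
          show ((-x₁, 0, 0) : F × F × F) = -(x₁, 0, 0) by ext <;> simp, C.map_neg hF hsh, hg1]
        ext <;> simp) x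
    rw [Equiv.Perm.mul_apply] at hx'
    have hsum : g (x + x', 0, 0) = ((g (x, 0, 0)).1 + (g (x, 0, 0)).1, 0, 0) := by
      rw [← prod_ext_left, C.additive g hsh, ← hx']
      have := (hr x).1
      generalize g (x, 0, 0) = v at this
      obtain ⟨z, a, r⟩ := v
      simp only at this
      subst this
      rw [tau_apply]
      ext <;> simp
    have h0 : x + x' = 0 := hinj (by
      simp only
      rw [← (hr (x + x')).2, hsum, show ((0, 0, 0) : F × F × F) = 0 from rfl, C.map_zero hF hh]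
      rfl)
    rw [h0, show ((0, 0, 0) : F × F × F) = 0 from rfl, C.map_zero hF hsh] at hsum
    have h1 : (g (x, 0, 0)).1 = 0 := by
      have h2 : 2 * (g (x, 0, 0)).1 = 0 := by
        rw [two_mul]; exact (congrArg Prod.fst hsum).symm
      exact (mul_eq_zero.mp h2).resolve_left hF.two_ne_zero
    obtain ⟨e1, e2⟩ := hr x
    exact Prod.ext h1 (Prod.ext e2 e1)
  -- the torus then fuses all of the first line
  obtain ⟨z₀, hz₀, hnf⟩ := C.fusion
  have hne : ∀ x, x ≠ 0 → (h (x, 0, 0)).2.1 ≠ 0 := fun x hx e =>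
    key x hx (Prod.ext e (hno x))
  set d : Fˣ := Units.mk0 ((h (z₀, 0, 0)).2.1 / (h (1, 0, 0)).2.1) (div_ne_zero (hne z₀ hz₀) (hne 1 one_ne_zero))
  refine hnf (g⁻¹ * act 0 d * g) (mul_mem (mul_mem (inv_mem hsh) (C.act_mem 0 d)) hsh) ?_
  rw [Equiv.Perm.mul_apply, Equiv.Perm.mul_apply, hA 1, Equiv.Perm.coe_inv, Equiv.symm_apply_eq, hA z₀]
  simp only [act_apply, Prod.mk.injEq]
  refine ⟨by ring, ?_, by ring⟩
  simp only [d, Units.val_mk0]
  have := hne 1 one_ne_zero
  field_simp
  ring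

theorem exists_shift {h : Equiv.Perm (F × F × F)} (hh : h ∈ H) {z : F} (hz : (h (z, 0, 0)).2 ≠ 0) :
    ∃ s : F, ∀ x, ((act s 1 * h) (x, 0, 0)).2.1 = 0 := by
  obtain ⟨x₁, hx₁⟩ := C.third_ne_of_ne hF hh hz
  have hx0 : x₁ ≠ 0 := fun e => by
    rw [e, show ((0, 0, 0) : F × F × F) = 0 from rfl, C.map_zero hF hh] at hx₁
    exact hx₁ rfl
  set s := -(h (x₁, 0, 0)).2.1 / (h (x₁, 0, 0)).2.2
  refine ⟨s, ?_⟩
  have hg : act s 1 * h ∈ H := mul_mem (C.act_mem _ _) hh
  have h1 : ((act s 1 * h) (x₁, 0, 0)).2.1 = 0 := by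
    rw [Equiv.Perm.mul_apply]
    have hs : s = -(h (x₁, 0, 0)).2.1 / (h (x₁, 0, 0)).2.2 := rfl
    generalize h (x₁, 0, 0) = v at hx₁ hs
    obtain ⟨z', a, r⟩ := v
    simp only at hx₁ hs
    simp only [act_apply, Units.val_one, one_mul, hs]
    field_simp
    ring
  set g := act s 1 * h
  have htg : tau F (g (x₁, 0, 0)) = g (x₁, 0, 0) := by
    generalize g (x₁, 0, 0) = v at h1
    obtain ⟨z', a, r⟩ := v
    simp only at h1
    rw [h1, tau_apply, neg_zero]
  obtain ⟨b, d, hbd⟩ := C.cent (g⁻¹ * tau F * g) (mul_mem (mul_mem (inv_mem hg) (C.act_mem _ _)) hg) x₁ hx0 (by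
    rw [Equiv.Perm.mul_apply, Equiv.Perm.mul_apply, htg, Equiv.Perm.coe_inv, Equiv.symm_apply_apply])
  intro x
  have hfix : tau F (g (x, 0, 0)) = g (x, 0, 0) := by
    have h2 : (g⁻¹ * tau F * g) (x, 0, 0) = (x, 0, 0) := by rw [hbd, act_fix_left]
    rw [Equiv.Perm.mul_apply, Equiv.Perm.mul_apply, Equiv.Perm.coe_inv, Equiv.symm_apply_eq] at h2
    exact h2
  generalize g (x, 0, 0) = v at hfix
  obtain ⟨z', a, r⟩ := v
  rw [tau_apply, Prod.mk.injEq, Prod.mk.injEq] at hfix
  have h3 : 2 * a = 0 := by linear_combination -hfix.2.1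
  exact (mul_eq_zero.mp h3).resolve_left hF.two_ne_zero

theorem exists_graph {g : Equiv.Perm (F × F × F)} (hg : g ∈ H) (hW : ∀ x, (g (x, 0, 0)).2.1 = 0)
    (hne : ∃ x, (g (x, 0, 0)).2 ≠ 0) :
    ∃ φ : F → F, (∀ r r', φ (r + r') = φ r + φ r') ∧ Graph g φ := by
  obtain ⟨x₀, hx₀⟩ := hne
  have hinj : Function.Injective fun x => (g (x, 0, 0)).2.2 := by
    intro x y e
    by_contra hne
    refine hx₀ (C.preserve_line hF hg (sub_ne_zero.mpr hne) (Prod.ext (hW _) ?_) x₀)
    have e' : ((x - y, 0, 0) : F × F × F) = (x, 0, 0) - (y, 0, 0) := by ext <;> simp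
    rw [e', C.map_sub hF hg]
    simpa using sub_eq_zero.mpr e
  choose x hx using Finite.injective_iff_surjective.mp hinj
  simp only at hx
  refine ⟨fun r => (g (x r, 0, 0)).1, fun r r' => ?_, fun r => ⟨x r, Prod.ext rfl (Prod.ext (hW _) (hx r))⟩⟩
  have e : x (r + r') = x r + x r' := hinj (by
    simp only
    rw [← prod_ext_left, C.additive g hg, hx]
    simp [hx])
  simp only
  rw [e, ← prod_ext_left, C.additive g hg]
  rfl

/-- A vector of a point in the plane fixed by `tau`, off the first line, puts the point into the plane. -/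
theorem plane_of_mem {h : Equiv.Perm (F × F × F)} (hh : h ∈ H) {x : F} (ha : (h (x, 0, 0)).2.1 = 0)
    (hr : (h (x, 0, 0)).2.2 ≠ 0) (y : F) : (h (y, 0, 0)).2.1 = 0 := by
  obtain ⟨s, hs⟩ := C.exists_shift hF hh (z := x) fun e => hr (congrArg Prod.snd e)
  have h1 := hs x
  rw [Equiv.Perm.mul_apply] at h1
  generalize h (x, 0, 0) = v at ha hr h1
  obtain ⟨z', a, r⟩ := v
  simp only at ha hr
  subst ha
  simp only [act_apply, Units.val_one, one_mul, zero_add] at h1
  have hs0 : s = 0 := (mul_eq_zero.mp h1).resolve_right hr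
  have := hs y
  rwa [hs0, act_one, one_mul] at this

theorem graph_unique {g g' : Equiv.Perm (F × F × F)} (hg : g ∈ H) (hg' : g' ∈ H) {φ φ' : F → F}
    (hG : Graph g φ) (hG' : Graph g' φ') (h1 : φ 1 = φ' 1) (r : F) : φ r = φ' r := by
  obtain ⟨x₁, e1⟩ := hG 1
  obtain ⟨x₁', e1'⟩ := hG' 1
  have hx : x₁ ≠ 0 := fun e => by
    rw [e, show ((0, 0, 0) : F × F × F) = 0 from rfl, C.map_zero hF hg] at e1
    exact one_ne_zero (congrArg (fun v : F × F × F => v.2.2) e1).symm
  obtain ⟨x, hxr⟩ := hG r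
  obtain ⟨y, hy⟩ := C.line_of_common hF hg hg' hx (z' := x₁') (by rw [e1, e1', h1]) x
  obtain ⟨y', hy'⟩ := hG' r
  have hinj : y = y' := by
    by_contra hne
    have e : g' (y - y', 0, 0) = (φ r - φ' r, 0, 0) := by
      rw [show ((y - y', 0, 0) : F × F × F) = (y, 0, 0) - (y', 0, 0) by ext <;> simp, C.map_sub hF hg', ← hy, hxr,
        hy']
      ext <;> simp
    have := C.preserve_line hF hg' (sub_ne_zero.mpr hne) (by rw [e]; rfl) x₁'
    rw [e1'] at this
    exact one_ne_zero (congrArg Prod.snd this)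
  rw [hinj, hy', hxr] at hy
  exact congrArg Prod.fst hy

/-- The torus moves graphs to graphs. -/
theorem graph_torus {g : Equiv.Perm (F × F × F)} {φ : F → F} (hG : Graph g φ) (d : Fˣ) :
    Graph (act 0 d * g) fun r => φ ((d : F)⁻¹ * (d : F)⁻¹ * r) := by
  intro r
  obtain ⟨x, hx⟩ := hG ((d : F)⁻¹ * (d : F)⁻¹ * r)
  refine ⟨x, ?_⟩
  rw [Equiv.Perm.mul_apply, hx, act_apply]
  have := d.ne_zero
  ext
  · simp
  · simp
  · simp only; field_simp

end Conic

end Cfsg.Lib.PspLocal
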